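import Cfsg.Agent.Lib.OddBase.Gluck
import Mathlib.Algebra.BigOperators.Finprod
import Mathlib.Algebra.Module.Hom
import Mathlib.Algebra.Ring.Subring.Basic

/-!
Irreducible modules: either there is a system of imprimitivity, or abelian normal subgroups generate fields.
-/

set_option autoImplicit false
set_option linter.unusedSectionVars false

namespace CfsgLib.OddBase

universe u

variable {A V : Type u} [Group A] [AddCommGroup V] [DistribMulAction A V]

/-- `V` is irreducible. -/
def Irred (A V : Type*) [Group A] [AddCommGroup V] [DistribMulAction A V] : Prop :=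
  ∀ U : AddSubgroup V, Inv A V U → U = ⊥ ∨ U = ⊤

theorem cr_of_irred (h : Irred A V) : CR A V := by
  intro U hU
  rcases h U hU with rfl | rfl
  · exact ⟨⊤, fun _ _ _ => trivial, bot_inf_eq _, bot_sup_eq _⟩
  · exact ⟨⊥, fun a x hx => by rw [AddSubgroup.mem_bot] at hx ⊢; rw [hx, smul_zero],
      inf_bot_eq _, sup_bot_eq _⟩

theorem base_of_idempotents [Finite A] [Finite V] (hodd : Odd (Nat.card A))
    (hirr : Irred A V) (hyp : Hyp.{u} (Nat.card V)) {ι : Type u} [Finite ι] [Nontrivial ι]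
    [MulAction A ι] (E : ι → V →+ V) (hidem : ∀ i v, E i (E i v) = E i v)
    (horth : ∀ i j v, i ≠ j → E i (E j v) = 0)
    (hsum : ∀ v, ∀ [Fintype ι], ∑ i, E i v = v) (hne : ∀ i, E i ≠ 0)
    (heq : ∀ (a : A) (i : ι) (v : V), a • E i v = E (a • i) (a • v)) : Base A V := by
  classical
  haveI := Fintype.ofFinite ι
  have heq' : ∀ (a : A) (j : ι) (v : V), E j (a • v) = a • E (a⁻¹ • j) v := by
    intro a j v
    rw [heq, smul_inv_smul]
  obtain ⟨i₀, i₁, hi⟩ := exists_pair_ne ι
  have htr : ∀ j, ∃ a : A, a • i₀ = j := by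
    intro j
    by_contra hj
    let S : AddSubgroup V :=
      { carrier := {v | ∀ k ∉ MulAction.orbit A i₀, E k v = 0}
        zero_mem' := fun k _ => map_zero _
        add_mem' := fun {x y} hx hy k hk => by rw [map_add, hx k hk, hy k hk, add_zero]
        neg_mem' := fun {x} hx k hk => by rw [map_neg, hx k hk, neg_zero] }
    have hS : Inv A V S := by
      intro a v hv k hk
      rw [heq', hv, smul_zero]
      intro h
      refine hk ?_
      obtain ⟨g, hg⟩ := h
      exact ⟨a * g, by show (a * g) • i₀ = k; rw [mul_smul, show g • i₀ = a⁻¹ • k from hg, smul_inv_smul]⟩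
    rcases hirr S hS with e | e
    · apply hne i₀
      ext v
      have : E i₀ v ∈ S := fun k hk => horth _ _ _ fun hk' => hk (by rw [hk']; exact MulAction.mem_orbit_self i₀)
      rwa [e, AddSubgroup.mem_bot] at this
    · apply hne j
      ext v
      have : v ∈ S := by rw [e]; trivial
      exact this j fun ⟨a, ha⟩ => hj ⟨a, ha⟩
  let U : AddSubgroup V := (E i₀).range
  let H := MulAction.stabilizer A i₀
  have hU : Inv ↥H V U := by
    rintro h _ ⟨v, rfl⟩
    exact ⟨(h : A) • v, by
      show E i₀ ((h : A) • v) = (h : A) • E i₀ v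
      rw [heq (h : A) i₀ v, MulAction.mem_stabilizer_iff.1 h.2]⟩
  have hfix0 : ∀ u ∈ U, E i₀ u = u := by rintro _ ⟨v, rfl⟩; exact hidem _ _
  letI := actOn U hU
  have hirrU : Irred ↥H ↥U := by
    intro W hW
    let S : AddSubgroup V :=
      { carrier := {v | ∀ a : A, E i₀ (a • v) ∈ W.map U.subtype}
        zero_mem' := fun a => by rw [smul_zero, map_zero]; exact zero_mem _
        add_mem' := fun {x y} hx hy a => by rw [smul_add, map_add]; exact add_mem (hx a) (hy a)
        neg_mem' := fun {x} hx a => by rw [smul_neg, map_neg]; exact neg_mem (hx a) }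
    have hS : Inv A V S := fun a v hv b => by rw [← mul_smul]; exact hv _
    by_cases hW0 : W = ⊥
    · exact Or.inl hW0
    right
    obtain ⟨w, hw, hw0⟩ : ∃ w ∈ W, w ≠ 0 := by
      by_contra h
      push Not at h
      exact hW0 (eq_bot_iff.2 fun x hx => AddSubgroup.mem_bot.2 (h x hx))
    have hwS : (w : V) ∈ S := by
      intro a
      by_cases ha : a ∈ H
      · refine ⟨(⟨a, ha⟩ : ↥H) • w, hW _ w hw, ?_⟩
        show a • (w : V) = E i₀ (a • (w : V))
        conv_lhs => rw [← hfix0 w w.2, heq, MulAction.mem_stabilizer_iff.1 ha]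
      · have hne' : i₀ ≠ a • i₀ := fun e => ha (MulAction.mem_stabilizer_iff.2 e.symm)
        rw [← hfix0 w w.2, heq, horth _ _ _ hne']
        exact zero_mem _
    rcases hirr S hS with e | e
    · exfalso
      rw [e, AddSubgroup.mem_bot] at hwS
      exact hw0 (Subtype.ext hwS)
    · rw [eq_top_iff]
      intro u _
      have : (u : V) ∈ S := by rw [e]; trivial
      have h1 := this 1
      rw [one_smul, hfix0 u u.2] at h1
      obtain ⟨w', hw', he⟩ := h1
      rwa [← Subtype.ext he]
  have hUlt : Nat.card ↥U < Nat.card V := by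
    refine lt_of_le_of_ne (Nat.card_le_card_of_injective _ Subtype.val_injective) fun e => ?_
    apply hne i₁
    ext v
    obtain ⟨⟨u, hu⟩, hu'⟩ :=
      ((Nat.bijective_iff_injective_and_card (Subtype.val : ↥U → V)).2
        ⟨Subtype.val_injective, e⟩).2 v
    rw [← hu']
    show E i₁ u = 0
    rw [← hfix0 u hu]
    exact horth _ _ _ hi.symm
  have hoddH : Odd (Nat.card ↥H) := hodd.of_dvd_nat H.card_subgroup_dvd_card
  haveI : Nontrivial ↥U := by
    by_contra h
    rw [not_nontrivial_iff_subsingleton] at h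
    apply hne i₀
    ext v
    exact congrArg Subtype.val (Subsingleton.elim (⟨E i₀ v, v, rfl⟩ : ↥U) 0)
  obtain ⟨p, hp, hp', hsw⟩ := (hyp ↥H ↥U hUlt hoddH (cr_of_irred hirrU)).two_orbits hoddH
  choose t ht using htr
  have hι : Nat.card ι < Nat.card V := by
    have hz : ∀ i, ∃ v, E i v ≠ 0 := fun i => by
      by_contra h
      push Not at h
      exact hne i (AddMonoidHom.ext h)
    choose z hz using hz
    let f : Option ι → V := fun o => o.elim 0 fun i => E i (z i)
    have hf : Function.Injective f := by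
      rintro (_ | i) (_ | j) e
      · rfl
      · exact absurd e.symm (hz j)
      · exact absurd e (hz i)
      · by_contra hij
        apply hz i
        show E i (z i) = 0
        rw [← hidem]
        have e' : E i (z i) = E j (z j) := e
        rw [e', horth _ _ _ fun h => hij (by rw [h])]
    have := Nat.card_le_card_of_injective f hf
    rw [Finite.card_option] at this
    omega
  obtain ⟨Col, hCol⟩ := regular_odd hyp (A := A) (Ω := ι) hodd hι
  let c : ι → ↥U × ↥U := fun i => if i ∈ Col then p else (p.2, p.1)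
  have hproj : ∀ (d : ι → ↥U) (j : ι), E j (∑ i, t i • (d i : V)) = t j • (d j : V) := by
    intro d j
    rw [map_sum, Finset.sum_eq_single j]
    · rw [heq', inv_smul_eq_iff.2 (ht j).symm, hfix0 _ (d j).2]
    · intro i _ hij
      rw [heq', ← hfix0 _ (d i).2, horth, smul_zero]
      intro e
      exact hij (by rw [← ht i, ← e, smul_inv_smul])
    · simp
  refine ⟨(∑ i, t i • ((c i).1 : V), ∑ i, t i • ((c i).2 : V)), fun a hv hw => ?_⟩
  have hmove : ∀ (d : ι → ↥U), a • (∑ i, t i • (d i : V)) = ∑ i, t i • (d i : V) →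
      ∀ i, (t (a • i))⁻¹ • a • t i • (d i : V) = (d (a • i) : V) := by
    intro d hd i
    rw [inv_smul_eq_iff, ← hproj d (a • i)]
    conv_rhs => rw [← hd]
    rw [← heq, hproj]
  have hh : ∀ i, (t (a • i))⁻¹ * a * t i ∈ H := fun i => by
    rw [MulAction.mem_stabilizer_iff, mul_smul, mul_smul, ht, inv_smul_eq_iff, ht]
  let h : ι → ↥H := fun i => ⟨_, hh i⟩
  have h1 : ∀ i, h i • (c i).1 = (c (a • i)).1 := fun i => Subtype.ext (by
    show ((t (a • i))⁻¹ * a * t i) • ((c i).1 : V) = _
    rw [mul_smul, mul_smul, hmove (fun i => (c i).1) hv])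
  have h2 : ∀ i, h i • (c i).2 = (c (a • i)).2 := fun i => Subtype.ext (by
    show ((t (a • i))⁻¹ * a * t i) • ((c i).2 : V) = _
    rw [mul_smul, mul_smul, hmove (fun i => (c i).2) hw])
  have hcol : ∀ i, a • i ∈ Col ↔ i ∈ Col := by
    intro i
    have e1 := h1 i
    have e2 := h2 i
    by_cases hi : i ∈ Col <;> by_cases hai : a • i ∈ Col <;>
      simp only [c, hi, hai, if_true, if_false, iff_self, true_iff, false_iff, iff_true,
        iff_false, not_true] at e1 e2 ⊢
    · exact hsw (h i) ⟨e1, e2⟩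
    · exact hsw (h i) ⟨e2, e1⟩
  have hfix := hCol a hcol
  intro x
  rw [← hsum x, Finset.smul_sum]
  refine Finset.sum_congr rfl fun i _ => ?_
  have hgood : Good ↥H ↥U (c i) := by
    by_cases hi : i ∈ Col
    · simp only [c, if_pos hi]; exact hp
    · simp only [c, if_neg hi]; exact hp'
  have hy : (t i)⁻¹ • E i x ∈ U := ⟨(t i)⁻¹ • x, by
    show E i₀ ((t i)⁻¹ • x) = (t i)⁻¹ • E i x
    rw [heq', inv_inv, ht]⟩
  have := congrArg Subtype.val (hgood (h i) (by rw [h1, hfix]) (by rw [h2, hfix]) ⟨_, hy⟩)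
  change ((t (a • i))⁻¹ * a * t i) • ((t i)⁻¹ • E i x) = (t i)⁻¹ • E i x at this
  rw [hfix, mul_smul, mul_smul, smul_inv_smul] at this
  exact smul_left_cancel _ this

/-- The endomorphism of an element. -/
noncomputable abbrev ρ (A V : Type*) [Group A] [AddCommGroup V] [DistribMulAction A V] :
    A →* AddMonoid.End V := DistribMulAction.toAddMonoidEnd A V

@[simp] theorem ρ_apply (a : A) (v : V) : ρ A V a v = a • v := rfl

/-- The subring generated by a subgroup. -/
noncomputable def alg (V : Type u) [AddCommGroup V] [DistribMulAction A V] (X : Subgroup A) :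
    Subring (AddMonoid.End V) :=
  Subring.closure (ρ A V '' (X : Set A))

theorem ρ_mem_alg {X : Subgroup A} {a : A} (ha : a ∈ X) : ρ A V a ∈ alg V X :=
  Subring.subset_closure ⟨a, ha, rfl⟩

theorem alg_comm {X : Subgroup A} (hX : ∀ a ∈ X, ∀ b ∈ X, a * b = b * a) {r s : AddMonoid.End V}
    (hr : r ∈ alg V X) (hs : s ∈ alg V X) : r * s = s * r := by
  have hcomm : ∀ x ∈ ρ A V '' (X : Set A), ∀ y ∈ ρ A V '' (X : Set A), x * y = y * x := by
    rintro _ ⟨a, ha, rfl⟩ _ ⟨b, hb, rfl⟩
    rw [← map_mul, ← map_mul, hX a ha b hb]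
  have h1 : Subring.closure (ρ A V '' (X : Set A)) ≤
      Subring.centralizer (ρ A V '' (X : Set A)) :=
    Subring.closure_le.2 fun x hx => Subring.mem_centralizer_iff.2 fun y hy => hcomm y hy x hx
  have h2 : Subring.closure (ρ A V '' (X : Set A)) ≤
      Subring.centralizer ((Subring.closure (ρ A V '' (X : Set A)) : Subring _) : Set _) :=
    Subring.closure_le.2 fun x hx => Subring.mem_centralizer_iff.2 fun y hy =>
      (Subring.mem_centralizer_iff.1 (h1 hy) x hx).symm
  exact Subring.mem_centralizer_iff.1 (h2 hs) r hr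

theorem conj_mem_alg {X : Subgroup A} (hX : ∀ g : A, ∀ a ∈ X, g * a * g⁻¹ ∈ X) (g : A)
    {r : AddMonoid.End V} (hr : r ∈ alg V X) : ρ A V g * r * ρ A V g⁻¹ ∈ alg V X := by
  have hgg : ρ A V g⁻¹ * ρ A V g = 1 := by rw [← map_mul, inv_mul_cancel, map_one]
  induction hr using Subring.closure_induction with
  | mem x hx =>
    obtain ⟨a, ha, rfl⟩ := hx
    rw [← map_mul, ← map_mul]
    exact ρ_mem_alg (hX g a ha)
  | zero => rw [mul_zero, zero_mul]; exact zero_mem _
  | one => rw [mul_one, ← map_mul, mul_inv_cancel, map_one]; exact one_mem _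
  | add x y _ _ hx hy => rw [mul_add, add_mul]; exact add_mem hx hy
  | neg x _ hx => rw [mul_neg, neg_mul]; exact neg_mem hx
  | mul x y _ _ hx hy =>
    have := mul_mem hx hy
    rwa [show ρ A V g * x * ρ A V g⁻¹ * (ρ A V g * y * ρ A V g⁻¹) =
      ρ A V g * x * (ρ A V g⁻¹ * ρ A V g) * y * ρ A V g⁻¹ by simp only [mul_assoc], hgg, mul_one,
      show ρ A V g * x * y = ρ A V g * (x * y) by rw [mul_assoc]] at this

theorem pow_apply_mem {W : AddSubgroup V} {r : AddMonoid.End V} (h : ∀ w ∈ W, r w ∈ W) (k : ℕ) :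
    ∀ w ∈ W, (r ^ k) w ∈ W := by
  induction k with
  | zero => intro w hw; simpa using hw
  | succ k ih => intro w hw; rw [pow_succ]; exact ih _ (h w hw)

/-- Either `V` has a base, or abelian normal subgroups generate fields. -/
theorem base_or_field [Finite A] [Finite V] [Nontrivial V] (hodd : Odd (Nat.card A))
    (hirr : Irred A V) (hyp : Hyp.{u} (Nat.card V)) (X : Subgroup A)
    (hXc : ∀ a ∈ X, ∀ b ∈ X, a * b = b * a) (hXn : ∀ g : A, ∀ a ∈ X, g * a * g⁻¹ ∈ X) :
    Base A V ∨ ∀ r ∈ alg V X, r ≠ 0 → Function.Injective r := by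
  classical
  haveI : Finite (AddMonoid.End V) :=
    Finite.of_injective (fun r : AddMonoid.End V => (r : V → V)) DFunLike.coe_injective
  let R := alg V X
  have hcomm : ∀ r ∈ R, ∀ s ∈ R, r * s = s * r := fun r hr s hs => alg_comm hXc hr hs
  have hrhoinv : ∀ (g : A) (v : V), ρ A V g⁻¹ (g • v) = v := fun g v => inv_smul_smul g v
  -- there are no nilpotent elements
  have hnil : ∀ r ∈ R, IsNilpotent r → r = 0 := by
    let K : AddSubgroup V :=
      { carrier := {v | ∀ r ∈ R, IsNilpotent r → r v = 0}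
        zero_mem' := fun r _ _ => map_zero _
        add_mem' := fun {x y} hx hy r hr hn => by rw [map_add, hx r hr hn, hy r hr hn, add_zero]
        neg_mem' := fun {x} hx r hr hn => by rw [map_neg, hx r hr hn, neg_zero] }
    have hK : Inv A V K := by
      intro g v hv r hr hn
      have hgg : ρ A V g⁻¹⁻¹ * ρ A V g⁻¹ = 1 := by rw [← map_mul, inv_mul_cancel, map_one]
      have hn' : IsNilpotent (ρ A V g⁻¹ * r * ρ A V g⁻¹⁻¹) := by
        obtain ⟨k, hk⟩ := hn
        refine ⟨k, ?_⟩
        have : ∀ m : ℕ, (ρ A V g⁻¹ * r * ρ A V g⁻¹⁻¹) ^ m = ρ A V g⁻¹ * r ^ m * ρ A V g⁻¹⁻¹ := by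
          intro m
          induction m with
          | zero => rw [pow_zero, pow_zero, mul_one, ← map_mul, mul_inv_cancel, map_one]
          | succ m ih =>
            rw [pow_succ, ih, pow_succ]
            simp only [mul_assoc]
            rw [← mul_assoc (ρ A V g⁻¹⁻¹) (ρ A V g⁻¹), hgg, one_mul]
        rw [this, hk, mul_zero, zero_mul]
      have := hv _ (conj_mem_alg hXn g⁻¹ hr) hn'
      rw [inv_inv] at this
      have e : g⁻¹ • r (g • v) = 0 := this
      exact (smul_eq_zero_iff_eq g⁻¹).1 e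
    have hK0 : K ≠ ⊥ := by
      obtain ⟨W, ⟨hW1, hW2⟩, hWmin⟩ := Set.Finite.exists_minimal
        (s := {W : AddSubgroup V | (∀ r ∈ R, ∀ w ∈ W, r w ∈ W) ∧ W ≠ ⊥}) (Set.toFinite _)
        ⟨⊤, fun _ _ _ _ => trivial, top_ne_bot⟩
      intro e
      refine hW2 (eq_bot_iff.2 fun w hw => ?_)
      rw [← e]
      intro r hr hn
      let W' := W.map r
      have h1 : W' ≤ W := by rintro _ ⟨x, hx, rfl⟩; exact hW1 r hr x hx
      by_cases hW' : W' = ⊥
      · have : r w ∈ W' := ⟨w, hw, rfl⟩
        rwa [hW', AddSubgroup.mem_bot] at this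
      · exfalso
        have h2 : W ≤ W' := hWmin ⟨by
          rintro s hs _ ⟨x, hx, rfl⟩
          exact ⟨s x, hW1 s hs x hx, congrArg (fun f : AddMonoid.End V => f x) (hcomm r hr s hs)⟩,
          hW'⟩ h1
        obtain ⟨k, hk⟩ := hn
        have h3 : ∀ m : ℕ, ∀ x ∈ W, ∃ y ∈ W, (r ^ m) y = x := by
          intro m
          induction m with
          | zero => exact fun x hx => ⟨x, hx, rfl⟩
          | succ m ih =>
            intro x hx
            obtain ⟨y, hy, hyx⟩ := ih x hx
            obtain ⟨z, hz, rfl⟩ := h2 hy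
            exact ⟨z, hz, by rw [pow_succ]; exact hyx⟩
        refine hW2 (eq_bot_iff.2 fun x hx => ?_)
        obtain ⟨y, -, rfl⟩ := h3 k x hx
        rw [hk]
        exact zero_mem _
    rcases hirr K hK with e | e
    · exact absurd e hK0
    · intro r hr hn
      ext v
      exact (show v ∈ K by rw [e]; trivial) r hr hn
  by_cases hid : ∃ e ∈ R, e * e = e ∧ e ≠ 0 ∧ e ≠ 1
  swap
  · right
    intro r hr hr0
    obtain ⟨m, n, hmn, hpow⟩ := Finite.exists_ne_map_eq_of_infinite (fun k : ℕ => r ^ k)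
    wlog hlt : m < n generalizing m n
    · exact this n m (Ne.symm hmn) hpow.symm (by omega)
    set d := n - m with hd
    have hstep : ∀ i, m ≤ i → ∀ j, r ^ (i + j * d) = r ^ i := by
      intro i hi j
      induction j with
      | zero => simp
      | succ j ih =>
        have h1 : r ^ (i + d) = r ^ i := by
          rw [show i + d = n + (i - m) by omega, pow_add, ← hpow, ← pow_add,
            show m + (i - m) = i by omega]
        rw [show i + (j + 1) * d = (i + d) + j * d by ring, pow_add, h1, ← pow_add, ih]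
    have he : r ^ ((m + 1) * d) * r ^ ((m + 1) * d) = r ^ ((m + 1) * d) := by
      rw [← pow_add]
      exact hstep _ (by have : 1 ≤ d := (by omega); nlinarith) (m + 1)
    have hne0 : r ^ ((m + 1) * d) ≠ 0 := fun h => hr0 (hnil r hr ⟨_, h⟩)
    have h1 : r ^ ((m + 1) * d) = 1 := by
      by_contra h
      exact hid ⟨_, pow_mem hr _, he, hne0, h⟩
    obtain ⟨k, hk⟩ : ∃ k, (m + 1) * d = k + 1 := ⟨(m + 1) * d - 1, by
      have : 0 < (m + 1) * d := Nat.mul_pos (by omega) (by omega)
      omega⟩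
    rw [hk, pow_succ] at h1
    intro v w hvw
    have := congrArg (r ^ k) hvw
    have h2 : ∀ x, (r ^ k) (r x) = x := fun x => congrArg (fun f : AddMonoid.End V => f x) h1
    rwa [h2, h2] at this
  left
  obtain ⟨e, heR, hee, he0, he1⟩ := hid
  let Atom : AddMonoid.End V → Prop := fun f => f ∈ R ∧ f * f = f ∧ f ≠ 0 ∧
    ∀ g ∈ R, g * g = g → g * f = g → g = 0 ∨ g = f
  have hbelow : ∀ f ∈ R, f * f = f → f ≠ 0 → ∃ g, Atom g ∧ g * f = g := by
    intro f hf hff hf0
    obtain ⟨g, ⟨hg1, hg2, hg3, hg4⟩, hmin⟩ := Set.exists_min_image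
      {g : AddMonoid.End V | g ∈ R ∧ g * g = g ∧ g ≠ 0 ∧ g * f = g}
      (fun g => Nat.card (AddMonoidHom.range (g : V →+ V))) (Set.toFinite _) ⟨f, hf, hff, hf0, hff⟩
    refine ⟨g, ⟨hg1, hg2, hg3, fun h hh hhh hhg => ?_⟩, hg4⟩
    by_cases hh0 : h = 0
    · exact Or.inl hh0
    right
    have h5 : h * f = h := by rw [← hhg, mul_assoc, hg4]
    have h6 := hmin h ⟨hh, hhh, hh0, h5⟩
    have h7 : g * h = h := by rw [hcomm g hg1 h hh, hhg]
    have hle : AddMonoidHom.range (h : V →+ V) ≤ AddMonoidHom.range (g : V →+ V) := by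
      rintro _ ⟨v, rfl⟩
      exact ⟨h v, congrArg (fun k : AddMonoid.End V => k v) h7⟩
    have heqr : AddMonoidHom.range (h : V →+ V) = AddMonoidHom.range (g : V →+ V) :=
      AddSubgroup.eq_of_le_of_card_ge hle h6
    refine (?_ : g = h).symm
    refine AddMonoidHom.ext fun v => ?_
    have : g v ∈ AddMonoidHom.range (h : V →+ V) := by rw [heqr]; exact ⟨v, rfl⟩
    obtain ⟨w, hw⟩ := this
    have e1 : h (g v) = g v := by
      rw [← hw]
      exact congrArg (fun k : AddMonoid.End V => k w) hhh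
    have e2 : h (g v) = h v := congrArg (fun k : AddMonoid.End V => k v) hhg
    exact e1.symm.trans e2
  let ι := {f : AddMonoid.End V // Atom f}
  have hconjmul : ∀ (g : A) (x y : AddMonoid.End V),
      ρ A V g * x * ρ A V g⁻¹ * (ρ A V g * y * ρ A V g⁻¹) = ρ A V g * (x * y) * ρ A V g⁻¹ := by
    intro g x y
    simp only [mul_assoc]
    rw [← mul_assoc (ρ A V g⁻¹) (ρ A V g), ← map_mul, inv_mul_cancel, map_one, one_mul]
  have hcc : ∀ (g : A) (x : AddMonoid.End V),
      ρ A V g⁻¹ * (ρ A V g * x * ρ A V g⁻¹) * ρ A V g⁻¹⁻¹ = x := by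
    intro g x
    simp only [mul_assoc]
    rw [inv_inv, ← mul_assoc (ρ A V g⁻¹) (ρ A V g), ← map_mul, inv_mul_cancel, map_one, one_mul,
      mul_one]
  have hatom : ∀ (g : A) (f : AddMonoid.End V), Atom f → Atom (ρ A V g * f * ρ A V g⁻¹) := by
    rintro g f ⟨h1, h2, h3, h4⟩
    refine ⟨conj_mem_alg hXn g h1, by rw [hconjmul, h2], fun h => h3 ?_, fun k hk hkk hkf => ?_⟩
    · rw [← hcc g f, h, mul_zero, zero_mul]
    · have hk' : ρ A V g⁻¹ * k * ρ A V g⁻¹⁻¹ ∈ R := conj_mem_alg hXn g⁻¹ hk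
      rcases h4 _ hk' (by rw [hconjmul, hkk]) (by
        conv_lhs => enter [2]; rw [← hcc g f]
        rw [hconjmul, hkf]) with e | e
      · left
        rw [← hcc g⁻¹ k, e, mul_zero, zero_mul]
      · right
        rw [← e]
        conv_lhs => rw [← hcc g⁻¹ k]
        rw [inv_inv]
  letI : MulAction A ι :=
    { smul := fun g f => ⟨ρ A V g * f.1 * ρ A V g⁻¹, hatom g f.1 f.2⟩
      one_smul := fun f => Subtype.ext (show ρ A V 1 * f.1 * ρ A V 1⁻¹ = f.1 by rw [inv_one, map_one, one_mul, mul_one])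
      mul_smul := fun g h f => Subtype.ext (show ρ A V (g * h) * f.1 * ρ A V (g * h)⁻¹ =
        ρ A V g * (ρ A V h * f.1 * ρ A V h⁻¹) * ρ A V g⁻¹ by
          simp only [map_mul, _root_.mul_inv_rev, mul_assoc]) }
  haveI : Fintype ι := Fintype.ofFinite ι
  have horth : ∀ f g : ι, f ≠ g → (f.1 * g.1 = 0) := by
    intro f g hfg
    have hm : f.1 * g.1 * (f.1 * g.1) = f.1 * g.1 := by
      rw [show f.1 * g.1 * (f.1 * g.1) = f.1 * (g.1 * f.1) * g.1 by simp only [mul_assoc],
        hcomm g.1 g.2.1 f.1 f.2.1, show f.1 * (f.1 * g.1) * g.1 = f.1 * f.1 * (g.1 * g.1) by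
          simp only [mul_assoc], f.2.2.1, g.2.2.1]
    rcases g.2.2.2.2 _ (mul_mem f.2.1 g.2.1) hm (by rw [mul_assoc, g.2.2.1]) with e | e
    · exact e
    · rcases f.2.2.2.2 _ (mul_mem f.2.1 g.2.1) hm (by
        rw [hcomm f.1 f.2.1 g.1 g.2.1, mul_assoc, f.2.2.1]) with e' | e'
      · exact e'
      · exact absurd (Subtype.ext (e'.symm.trans e)) hfg
  have hsum : (∑ f : ι, f.1) = 1 := by
    set S : AddMonoid.End V := ∑ f : ι, f.1 with hS
    have hSR : S ∈ R := sum_mem fun f _ => f.2.1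
    have hSf : ∀ f : ι, S * f.1 = f.1 := by
      intro f
      rw [hS, Finset.sum_mul, Finset.sum_eq_single f]
      · exact f.2.2.1
      · exact fun g _ hg => horth g f hg
      · simp
    have hSS : S * S = S := by
      conv_lhs => arg 2; rw [hS]
      rw [Finset.mul_sum, hS]
      exact Finset.sum_congr rfl fun f _ => hSf f
    by_contra hne
    obtain ⟨g, hg, hgf⟩ := hbelow (1 - S) (sub_mem (one_mem _) hSR)
      (by rw [mul_sub, mul_one, sub_mul, one_mul, hSS, sub_self, sub_zero])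
      (fun h => hne (sub_eq_zero.1 h).symm)
    have := hSf ⟨g, hg⟩
    rw [mul_sub, mul_one, hcomm g hg.1 S hSR, this, sub_self] at hgf
    exact hg.2.2.1 hgf.symm
  have he' : (1 : AddMonoid.End V) - e ≠ 0 := fun h => he1 (sub_eq_zero.1 h).symm
  obtain ⟨g1, hg1, hg1e⟩ := hbelow e heR hee he0
  obtain ⟨g2, hg2, hg2e⟩ := hbelow (1 - e) (sub_mem (one_mem _) heR)
    (by rw [mul_sub, mul_one, sub_mul, one_mul, hee, sub_self, sub_zero]) he'
  haveI : Nontrivial ι := by
    refine ⟨⟨g1, hg1⟩, ⟨g2, hg2⟩, fun h => hg1.2.2.1 ?_⟩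
    have h' : g1 = g2 := congrArg Subtype.val h
    rw [← h', mul_sub, mul_one, hg1e, sub_self] at hg2e
    exact hg2e.symm
  refine base_of_idempotents hodd hirr hyp (fun f : ι => (f.1 : V →+ V))
    (fun f v => congrArg (fun k : AddMonoid.End V => k v) f.2.2.1)
    (fun f g v hfg => congrArg (fun k : AddMonoid.End V => k v) (horth f g hfg)) ?_
    (fun f => f.2.2.2.1) ?_
  · intro v inst
    have h : (∑ f ∈ (Finset.univ : Finset ι), (f.1 : V →+ V)) = (1 : AddMonoid.End V) := by
      rw [← hsum]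
      exact Finset.sum_congr (by ext; simp) fun _ _ => rfl
    have h' := (AddMonoidHom.finset_sum_apply (fun f : ι => (f.1 : V →+ V)) Finset.univ v).symm
    rw [h'.trans (DFunLike.congr_fun h v)]
    rfl
  · intro g f v
    show g • f.1 v = g • f.1 (g⁻¹ • g • v)
    rw [inv_smul_smul]

end CfsgLib.OddBase
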