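import Cfsg.Agent.Lib.OddBase.Quasi

/-!
A completely reducible module of a group of odd order has two vectors with trivial common stabilizer.
-/

set_option autoImplicit false
set_option linter.unusedSectionVars false

namespace CfsgLib.OddBase

universe u v

theorem base_of_faithful {A V : Type u} [Group A] [Finite A] [AddCommGroup V] [Finite V]
    [DistribMulAction A V] [FaithfulSMul A V] [Nontrivial V] (hodd : Odd (Nat.card A))
    (hirr : Irred A V) (hyp : Hyp.{u} (Nat.card V)) : Base A V := by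
  by_contra hno
  refine hno (quasi hodd hyp fun X hXc hXn => ?_)
  exact (base_or_field hodd hirr hyp X hXc hXn).resolve_left hno

theorem base_step {A V : Type u} [Group A] [Finite A] [AddCommGroup V] [Finite V]
    [DistribMulAction A V] (hodd : Odd (Nat.card A)) (hcr : CR A V)
    (hyp : Hyp.{u} (Nat.card V)) : Base A V := by
  classical
  rcases subsingleton_or_nontrivial V with hV | hV
  · exact ⟨(0, 0), fun a _ _ x => Subsingleton.elim _ _⟩
  by_cases hirr : Irred A V
  · let φ : A →* (AddMonoid.End V)ˣ := (DistribMulAction.toAddMonoidEnd A V).toHomUnits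
    haveI : Finite (AddMonoid.End V) :=
      Finite.of_injective (fun r : AddMonoid.End V => (r : V → V)) DFunLike.coe_injective
    have hsmul : ∀ (a : A) (v : V), φ.rangeRestrict a • v = a • v := fun a v => rfl
    haveI : FaithfulSMul φ.range V := ⟨fun {g h} e => Subtype.ext (Units.ext (AddMonoidHom.ext e))⟩
    have hoddG : Odd (Nat.card φ.range) := hodd.of_dvd_nat (Subgroup.card_range_dvd φ)
    have hirrG : Irred φ.range V := fun U hU => hirr U fun a x hx => by
      rw [← hsmul]; exact hU _ x hx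
    obtain ⟨p, hp⟩ := base_of_faithful hoddG hirrG hyp
    exact ⟨p, fun a h1 h2 x => hp (φ.rangeRestrict a) h1 h2 x⟩
  · unfold Irred at hirr
    push Not at hirr
    obtain ⟨U, hU, hU0, hU1⟩ := hirr
    obtain ⟨W, hW, hdis, hsup⟩ := hcr U hU
    have hlt : ∀ T : AddSubgroup V, T ≠ ⊤ → Nat.card ↥T < Nat.card V := fun T hT =>
      lt_of_le_of_ne (Nat.card_le_card_of_injective _ Subtype.val_injective) fun e =>
        hT (T.eq_top_of_card_eq e)
    have hW1 : W ≠ ⊤ := fun e => hU0 (by rw [← hdis, e, inf_top_eq])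
    letI := actOn U hU
    obtain ⟨⟨u1, u2⟩, hu⟩ := hyp A ↥U (hlt U hU1) hodd (hcr.res U hU)
    let C : Subgroup A := fixingSubgroup A (U : Set V)
    haveI : C.Normal := ⟨fun c hc g => (mem_fixingSubgroup_iff A).2 fun y hy => by
      rw [mul_smul, mul_smul, (mem_fixingSubgroup_iff A).1 hc _ (hU g⁻¹ y hy), smul_inv_smul]⟩
    have hWC : Inv (↥C) V W := fun c x hx => hW (c : A) x hx
    have hcrW := (hcr.normal C).res W hWC
    letI := actOn W hWC
    obtain ⟨⟨w1, w2⟩, hw⟩ := hyp ↥C ↥W (hlt W hW1) (hodd.of_dvd_nat C.card_subgroup_dvd_card) hcrW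
    refine ⟨((u1 : V) + w1, (u2 : V) + w2), fun a h1 h2 => ?_⟩
    have key : ∀ (u : ↥U) (w : ↥W), a • ((u : V) + w) = (u : V) + w →
        a • (u : V) = u ∧ a • (w : V) = w := by
      intro u w h
      rw [smul_add] at h
      have e : a • (u : V) - u = w - a • (w : V) := by
        rw [sub_eq_sub_iff_add_eq_add, add_comm (w : V)]
        exact h
      have hmem : a • (u : V) - u ∈ U ⊓ W :=
        ⟨U.sub_mem (hU a u u.2) u.2, e ▸ W.sub_mem w.2 (hW a w w.2)⟩
      rw [hdis, AddSubgroup.mem_bot] at hmem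
      rw [hmem, eq_comm, sub_eq_zero] at e
      exact ⟨sub_eq_zero.1 hmem, e.symm⟩
    obtain ⟨a1, b1⟩ := key u1 w1 h1
    obtain ⟨a2, b2⟩ := key u2 w2 h2
    have haU : ∀ y ∈ U, a • y = y := fun y hy =>
      congrArg Subtype.val (hu a (Subtype.ext a1) (Subtype.ext a2) ⟨y, hy⟩)
    have haC : a ∈ C := (mem_fixingSubgroup_iff A).2 haU
    have haW : ∀ y ∈ W, a • y = y := fun y hy =>
      congrArg Subtype.val (hw ⟨a, haC⟩ (Subtype.ext b1) (Subtype.ext b2) ⟨y, hy⟩)
    intro x
    have hx : x ∈ U ⊔ W := by rw [hsup]; trivial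
    obtain ⟨y, hy, z, hz, rfl⟩ := AddSubgroup.mem_sup.1 hx
    rw [smul_add, haU y hy, haW z hz]

theorem hyp_all (n : ℕ) : Hyp.{u} n := by
  induction n using Nat.strong_induction_on with
  | _ n ih =>
    intro A V _ _ _ _ _ hV hodd hcr
    exact base_step hodd hcr (ih _ hV)

/-- The main theorem. -/
theorem exists_two_vectors {A : Type u} {V : Type v} [Group A] [Finite A] [AddCommGroup V] [Finite V]
    [DistribMulAction A V] [FaithfulSMul A V] (hodd : Odd (Nat.card A)) (hcr : CR A V) :
    ∃ x y : V, ∀ a : A, a • x = x → a • y = y → a = 1 := by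
  let φ : A →* (AddMonoid.End V)ˣ := (DistribMulAction.toAddMonoidEnd A V).toHomUnits
  haveI : Finite (AddMonoid.End V) :=
    Finite.of_injective (fun r : AddMonoid.End V => (r : V → V)) DFunLike.coe_injective
  have hsmul : ∀ (a : A) (v : V), φ.rangeRestrict a • v = a • v := fun a v => rfl
  have hoddG : Odd (Nat.card φ.range) := hodd.of_dvd_nat (Subgroup.card_range_dvd φ)
  have hcrG : CR φ.range V := fun U hU => by
    obtain ⟨W, hW, h1, h2⟩ := hcr U fun a x hx => hsmul a x ▸ hU _ x hx
    refine ⟨W, fun g x hx => ?_, h1, h2⟩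
    obtain ⟨a, rfl⟩ := φ.rangeRestrict_surjective g
    rw [hsmul]
    exact hW a x hx
  obtain ⟨p, hp⟩ := hyp_all (Nat.card V + 1) φ.range V (Nat.lt_succ_self _) hoddG hcrG
  refine ⟨p.1, p.2, fun a h1 h2 => FaithfulSMul.eq_of_smul_eq_smul (α := V) fun x => ?_⟩
  rw [one_smul, ← hsmul]
  exact hp _ h1 h2 x

end CfsgLib.OddBase
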