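import Cfsg.Agent.Lib.OddBase.Blocks
import Mathlib.LinearAlgebra.Matrix.GeneralLinearGroup.Card
import Mathlib.LinearAlgebra.Matrix.ToLin
import Mathlib.Algebra.Module.ZMod
import Mathlib.GroupTheory.Sylow
import Mathlib.FieldTheory.Finiteness
import Mathlib.NumberTheory.Divisors
import Mathlib.Algebra.Field.ZMod

/-!
Orders of small completely reducible groups of odd order.
-/

set_option autoImplicit false
set_option linter.unusedSectionVars false

namespace CfsgLib.OddBase

universe u

variable {H M : Type u} [Group H] [Finite H] [AddCommGroup M] [Finite M] [DistribMulAction H M]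

/-- There is no non-trivial normal `p`-subgroup acting completely reducibly on a `p`-group. -/
theorem normal_p_eq_bot [FaithfulSMul H M] (p : ℕ) [Fact p.Prime]
    (hM : IsPGroup p (Multiplicative M)) (hcr : CR H M) (P : Subgroup H) [hP : P.Normal]
    (hPp : IsPGroup p P) : P = ⊥ := by
  classical
  let F : AddSubgroup M :=
    { carrier := {x | ∀ g ∈ P, g • x = x}
      zero_mem' := fun g _ => smul_zero g
      add_mem' := fun {x y} hx hy g hg => by rw [smul_add, hx g hg, hy g hg]
      neg_mem' := fun {x} hx g hg => by rw [smul_neg, hx g hg] }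
  have hF : Inv H M F := by
    intro h x hx g hg
    have hg' : h⁻¹ * g * h ∈ P := by simpa using hP.conj_mem g hg h⁻¹
    calc g • h • x = h • (h⁻¹ * g * h) • x := by simp [mul_smul]
      _ = h • x := by rw [hx _ hg']
  obtain ⟨T, hT, hdis, hsup⟩ := hcr F hF
  by_cases hT0 : T = ⊥
  · rw [hT0, sup_bot_eq] at hsup
    rw [eq_bot_iff]
    intro g hg
    rw [Subgroup.mem_bot]
    refine FaithfulSMul.eq_of_smul_eq_smul (α := M) fun x => ?_
    rw [one_smul]
    exact (show x ∈ F by rw [hsup]; trivial) g hg
  · exfalso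
    letI := actOn (A := ↥P) T (fun g x hx => hT g x hx)
    haveI : Nontrivial ↥T := (AddSubgroup.nontrivial_iff_ne_bot T).2 hT0
    have hdvd : p ∣ Nat.card ↥T := by
      have hTM : Nat.card ↥T ∣ Nat.card M := T.card_addSubgroup_dvd_card
      obtain ⟨k, hk⟩ := IsPGroup.iff_card.1 hM
      rw [show Nat.card (Multiplicative M) = Nat.card M from Nat.card_congr Multiplicative.toAdd] at hk
      rw [hk] at hTM
      obtain ⟨j, -, hj⟩ := (Nat.dvd_prime_pow Fact.out).1 hTM
      rw [hj]
      rcases j with _ | j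
      · rw [pow_zero] at hj
        exact absurd hj (Finite.one_lt_card).ne'
      · exact dvd_pow_self p (Nat.succ_ne_zero j)
    obtain ⟨x, hx, hx0⟩ := hPp.exists_fixed_point_of_prime_dvd_card_of_fixed_point ↥T hdvd
      (a := (0 : ↥T)) (fun g => smul_zero g)
    have hxT : (x : M) ∈ F ⊓ T := ⟨fun g hg => congrArg Subtype.val (hx ⟨g, hg⟩), x.2⟩
    rw [hdis, AddSubgroup.mem_bot] at hxT
    exact hx0 (Subtype.ext hxT.symm)

theorem card_dvd_GL' [FaithfulSMul H M] (p k : ℕ) [hp : Fact p.Prime] [Module (ZMod p) M]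
    [Module.Finite (ZMod p) M] (hcard : Nat.card M = p ^ k) :
    Nat.card H ∣ ∏ i : Fin k, (p ^ k - p ^ (i : ℕ)) := by
  classical
  have hr : Module.finrank (ZMod p) M = k := by
    refine Nat.pow_right_injective hp.out.two_le ?_
    show p ^ _ = p ^ k
    have e : Nat.card M = Nat.card (ZMod p) ^ Module.finrank (ZMod p) M := Module.natCard_eq_pow_finrank
    rw [Nat.card_zmod, hcard] at e
    exact e.symm
  let b : Module.Basis (Fin k) (ZMod p) M :=
    (Module.finBasis (ZMod p) M).reindex (finCongr hr)
  haveI : SMulCommClass H (ZMod p) M :=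
    ⟨fun h c x => ZMod.map_smul (DistribSMul.toAddMonoidHom M h) c x⟩
  let f : H →* Module.End (ZMod p) M := DistribMulAction.toModuleEnd (ZMod p) M
  let g : H →* GL (Fin k) (ZMod p) :=
    ((LinearMap.toMatrixAlgEquiv b).toAlgHom.toRingHom.toMonoidHom.comp f).toHomUnits
  have hg : Function.Injective g := by
    intro x y e
    have e1 : (LinearMap.toMatrixAlgEquiv b) (f x) = (LinearMap.toMatrixAlgEquiv b) (f y) :=
      congrArg Units.val e
    have e2 := (LinearMap.toMatrixAlgEquiv b).injective e1
    exact FaithfulSMul.eq_of_smul_eq_smul (α := M) fun z => LinearMap.congr_fun e2 z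
  have := Subgroup.card_dvd_of_injective g hg
  rwa [Matrix.card_GL_field, ZMod.card] at this

/-- The order divides the order of the general linear group. -/
theorem card_dvd_GL [FaithfulSMul H M] (p k : ℕ) [hp : Fact p.Prime]
    (hM : ∀ x : M, p • x = 0) (hcard : Nat.card M = p ^ k) :
    Nat.card H ∣ ∏ i : Fin k, (p ^ k - p ^ (i : ℕ)) := by
  letI : Module (ZMod p) M := AddCommGroup.zmodModule hM
  haveI : Module.Finite (ZMod p) M := Module.Finite.of_finite
  exact @card_dvd_GL' H M _ _ _ _ _ _ p k _ _ ‹_› hcard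

theorem not_dvd_of_divisors [FaithfulSMul H M] (p : ℕ) [Fact p.Prime]
    (hM : IsPGroup p (Multiplicative M)) (hcr : CR H M)
    (hdiv : ∀ d : ℕ, d ∣ Nat.card H → d % p = 1 → d = 1) : ¬ p ∣ Nat.card H := by
  intro hd
  obtain ⟨P⟩ : Nonempty (Sylow p H) := inferInstance
  have h1 : Nat.card (Sylow p H) = 1 := by
    refine hdiv _ ((P.card_dvd_index).trans (Subgroup.index_dvd_card _)) ?_
    exact Eq.trans (card_sylow_modEq_one p H) (Nat.mod_eq_of_lt (Fact.out : p.Prime).one_lt)
  haveI : Subsingleton (Sylow p H) := (Nat.card_eq_one_iff_unique.1 h1).1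
  haveI := Sylow.normal_of_subsingleton P
  have := normal_p_eq_bot p hM hcr (P : Subgroup H) P.isPGroup'
  exact P.ne_bot_of_dvd_card hd this

theorem dvd_of_odd_of_dvd {h a b : ℕ} (hodd : Odd h) (hd : h ∣ 2 ^ a * b) : h ∣ b :=
  (Nat.Coprime.pow_right a (Nat.coprime_two_right.2 hodd)).dvd_of_dvd_mul_left hd

theorem bound_two [FaithfulSMul H M] (hodd : Odd (Nat.card H)) (hcr : CR H M) (p : ℕ)
    [hp : Fact p.Prime] (hM : ∀ x : M, p • x = 0) (hcard : Nat.card M = p ^ 2) :
    (p = 3 → Nat.card H ≤ 1) ∧ (p = 5 → Nat.card H ≤ 3) ∧ (p = 7 → Nat.card H ≤ 9) := by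
  have hd := card_dvd_GL (H := H) p 2 hM hcard
  have hPM : IsPGroup p (Multiplicative M) := IsPGroup.of_card (n := 2)
    (by rw [← hcard]; exact Nat.card_congr Multiplicative.toAdd)
  rw [Fin.prod_univ_two] at hd
  refine ⟨?_, ?_, ?_⟩ <;> rintro rfl
  · have h3 : Nat.card H ∣ 3 := dvd_of_odd_of_dvd (a := 4) hodd (by norm_num at hd ⊢; exact hd)
    have hn := not_dvd_of_divisors 3 hPM hcr fun d hd1 hd2 => by
      have := Nat.le_of_dvd (by norm_num) (hd1.trans h3)
      omega
    rcases (Nat.dvd_prime Nat.prime_three).1 h3 with e | e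
    · omega
    · exact absurd (e ▸ dvd_rfl) hn
  · have h15 : Nat.card H ∣ 15 := dvd_of_odd_of_dvd (a := 5) hodd (by norm_num at hd ⊢; exact hd)
    have hn := not_dvd_of_divisors 5 hPM hcr fun d hd1 hd2 => by
      have h15' := hd1.trans h15
      have := Nat.le_of_dvd (by norm_num) h15'
      interval_cases d <;> omega
    have : Nat.card H ∣ 3 := ((Nat.prime_five.coprime_iff_not_dvd.2 hn).symm).dvd_of_dvd_mul_left
      (show Nat.card H ∣ 5 * 3 from h15)
    exact Nat.le_of_dvd (by norm_num) this
  · have h63 : Nat.card H ∣ 63 := dvd_of_odd_of_dvd (a := 5) hodd (by norm_num at hd ⊢; exact hd)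
    have hn := not_dvd_of_divisors 7 hPM hcr fun d hd1 hd2 => by
      have h' := hd1.trans h63
      have := Nat.le_of_dvd (by norm_num) h'
      interval_cases d <;> omega
    have : Nat.card H ∣ 9 :=
      (((by norm_num : Nat.Prime 7).coprime_iff_not_dvd.2 hn).symm).dvd_of_dvd_mul_left
      (show Nat.card H ∣ 7 * 9 from h63)
    exact Nat.le_of_dvd (by norm_num) this

theorem bound_four [FaithfulSMul H M] (hodd : Odd (Nat.card H)) (hcr : CR H M)
    (hM : ∀ x : M, 3 • x = 0) (hcard : Nat.card M = 81)
    (hperp : ∀ v : M, v ≠ 0 → ∃ W : AddSubgroup M, v ∈ W ∧ Nat.card ↥W = 27 ∧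
      ∀ h : H, h • v = v → ∀ x ∈ W, h • x ∈ W) : Nat.card H ≤ 5 := by
  classical
  haveI : Fact (Nat.Prime 3) := ⟨Nat.prime_three⟩
  haveI : Fact (Nat.Prime 13) := ⟨by norm_num⟩
  have hd := card_dvd_GL (H := H) 3 4 hM (by rw [hcard]; norm_num)
  rw [Fin.prod_univ_four] at hd
  have h47 : Nat.card H ∣ 47385 := dvd_of_odd_of_dvd (a := 9) hodd (by norm_num at hd ⊢; exact hd)
  have h13 : ¬ 13 ∣ Nat.card H := by
    intro h
    obtain ⟨g, hg⟩ := exists_prime_orderOf_dvd_card' (G := H) 13 h
    have hP : IsPGroup 13 (Subgroup.zpowers g) :=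
      IsPGroup.of_card (n := 1) (by rw [Nat.card_zpowers, hg, pow_one])
    have hg13 : g ^ 13 = 1 := by rw [← hg]; exact pow_orderOf_eq_one g
    obtain ⟨v, hv, hv0⟩ : ∃ v : M, g • v = v ∧ v ≠ 0 := by
      by_contra hno
      have h0 : MulAction.fixedPoints (Subgroup.zpowers g) M = {0} := by
        ext x
        refine ⟨fun hx => ?_, ?_⟩
        · by_contra hx0
          exact hno ⟨x, hx ⟨g, Subgroup.mem_zpowers g⟩, hx0⟩
        · rintro rfl a
          exact smul_zero a
      have hm := hP.card_modEq_card_fixedPoints M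
      rw [h0, hcard, Nat.card_unique] at hm
      exact absurd hm (by decide)
    obtain ⟨W, hvW, hW27, hWinv⟩ := hperp v hv0
    letI := actOn (A := ↥(Subgroup.zpowers g)) W (fun a x hx => hWinv a
      (by
        obtain ⟨k, hk⟩ := Subgroup.mem_zpowers_iff.1 a.2
        rw [← hk]
        exact MulAction.mem_stabilizer_iff.1
          ((MulAction.stabilizer H v).zpow_mem (MulAction.mem_stabilizer_iff.2 hv) k)) x hx)
    let F : AddSubgroup ↥W :=
      { carrier := MulAction.fixedPoints (Subgroup.zpowers g) ↥W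
        zero_mem' := fun a => smul_zero a
        add_mem' := fun {x y} hx hy a => by rw [smul_add, hx a, hy a]
        neg_mem' := fun {x} hx a => by rw [smul_neg, hx a] }
    have hFW : F = ⊤ := by
      have hm : 27 ≡ Nat.card ↥F [MOD 13] := by
        rw [← hW27]
        exact hP.card_modEq_card_fixedPoints ↥W
      have hd : Nat.card ↥F ∣ 27 := hW27 ▸ F.card_addSubgroup_dvd_card
      have hne : Nat.card ↥F ≠ 1 := by
        intro e
        have hvF : (⟨v, hvW⟩ : ↥W) ∈ F := by
          intro a
          obtain ⟨k, hk⟩ := Subgroup.mem_zpowers_iff.1 a.2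
          refine Subtype.ext ?_
          show (a : H) • v = v
          rw [← hk]
          exact MulAction.mem_stabilizer_iff.1
            ((MulAction.stabilizer H v).zpow_mem (MulAction.mem_stabilizer_iff.2 hv) k)
        rw [AddSubgroup.card_eq_one] at e
        rw [e, AddSubgroup.mem_bot] at hvF
        exact hv0 (congrArg Subtype.val hvF)
      refine F.eq_top_of_card_eq ?_
      rw [hW27]
      have hle := Nat.le_of_dvd (by norm_num) hd
      unfold Nat.ModEq at hm
      interval_cases (Nat.card ↥F) <;> omega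
    have hfixW : ∀ x ∈ W, g • x = x := fun x hx =>
      congrArg Subtype.val ((show (⟨x, hx⟩ : ↥W) ∈ F by rw [hFW]; trivial) ⟨g, Subgroup.mem_zpowers g⟩)
    -- `g` is trivial on the quotient by `W`
    have hidx : W.index = 3 := by
      have := W.card_mul_index
      rw [hW27, hcard] at this
      omega
    have hfixp : ∀ i : ℕ, ∀ w ∈ W, g ^ i • w = w := fun i w hw =>
      MulAction.mem_stabilizer_iff.1 ((MulAction.stabilizer H w).pow_mem
        (MulAction.mem_stabilizer_iff.2 (hfixW w hw)) i)
    have hmap : ∀ x : M, g • x - x ∈ W := by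
      intro x
      obtain ⟨i, j, hij, e⟩ : ∃ i j : Fin 4, i < j ∧
          ((g ^ (i : ℕ) • x : M) : M ⧸ W) = ((g ^ (j : ℕ) • x : M) : M ⧸ W) := by
        by_contra hno
        push Not at hno
        have hinj : Function.Injective (fun i : Fin 4 => ((g ^ (i : ℕ) • x : M) : M ⧸ W)) := by
          intro i j e
          rcases lt_trichotomy i j with h | h | h
          · exact absurd e (hno i j h)
          · exact h
          · exact absurd e.symm (hno j i h)
        have := Nat.card_le_card_of_injective _ hinj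
        rw [Nat.card_fin, ← AddSubgroup.index_eq_card, hidx] at this
        omega
      rw [QuotientAddGroup.eq_iff_sub_mem] at e
      obtain ⟨d, hd, hd0, hd4⟩ : ∃ d : ℕ, (j : ℕ) = i + d ∧ 0 < d ∧ d < 4 :=
        ⟨(j : ℕ) - i, by have : (i : ℕ) < j := hij; omega, by have : (i : ℕ) < j := hij; omega, by omega⟩
      have hw : x - g ^ d • x ∈ W := by
        rw [hd, pow_add, mul_smul, ← smul_sub] at e
        have h1 := hfixp (i : ℕ) _ e
        rwa [← smul_left_cancel _ h1]
      have hk : ∀ k : ℕ, g ^ (d * k) • x - x ∈ W := by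
        intro k
        induction k with
        | zero => simp
        | succ k ih =>
          rw [Nat.mul_succ, pow_add, mul_smul]
          have h2 : g ^ (d * k) • (g ^ d • x) - g ^ (d * k) • x ∈ W := by
            rw [← smul_sub, hfixp (d * k) _ (by simpa using W.neg_mem hw)]
            simpa using W.neg_mem hw
          simpa [sub_add_sub_cancel] using W.add_mem h2 ih
      obtain rfl | rfl | rfl : d = 1 ∨ d = 2 ∨ d = 3 := by omega
      · simpa using hk 1
      · have := hk 7
        rwa [show 2 * 7 = 13 + 1 by norm_num, pow_add, hg13, pow_one, one_mul] at this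
      · have := hk 9
        rwa [show 3 * 9 = 13 + 13 + 1 by norm_num, pow_add, pow_add, hg13, pow_one, one_mul,
          one_mul] at this
    have hfix : ∀ x : M, g • x = x := by
      intro x
      obtain ⟨c, hc⟩ : ∃ c, g • x = x + c := ⟨g • x - x, by abel⟩
      have hcW : g • c = c := hfixW c (by
        have := hmap x
        rwa [hc, add_sub_cancel_left] at this)
      have hpow : ∀ i : ℕ, g ^ i • x = x + i • c := by
        intro i
        induction i with
        | zero => simp
        | succ i ih =>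
          rw [pow_succ, mul_smul, hc, smul_add, ih, succ_nsmul,
            MulAction.mem_stabilizer_iff.1 ((MulAction.stabilizer H c).pow_mem
              (MulAction.mem_stabilizer_iff.2 hcW) i)]
          abel
      have h0 := hpow 13
      rw [hg13, one_smul, left_eq_add, show 13 = 4 * 3 + 1 by norm_num, add_nsmul, mul_nsmul',
        hM, smul_zero, zero_add, one_nsmul] at h0
      rw [hc, h0, add_zero]
    have : g = 1 := FaithfulSMul.eq_of_smul_eq_smul (α := M) fun x => by rw [one_smul]; exact hfix x
    rw [this, orderOf_one] at hg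
    exact absurd hg (by norm_num)
  have h36 : Nat.card H ∣ 3645 :=
    (((Fact.out : Nat.Prime 13).coprime_iff_not_dvd.2 h13).symm).dvd_of_dvd_mul_left
      (show Nat.card H ∣ 13 * 3645 from h47)
  have hPM : IsPGroup 3 (Multiplicative M) := IsPGroup.of_card (n := 4)
    (by rw [show (3 : ℕ) ^ 4 = 81 by norm_num, ← hcard]; exact Nat.card_congr Multiplicative.toAdd)
  have h3 := not_dvd_of_divisors 3 hPM hcr fun d hd1 hd2 => by
    have hmem : d ∈ Nat.divisors 3645 := Nat.mem_divisors.2 ⟨hd1.trans h36, by norm_num⟩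
    have key : ∀ d ∈ Nat.divisors 3645, d % 3 = 1 → d = 1 := by decide +kernel
    exact key d hmem hd2
  have : Nat.card H ∣ 5 :=
    ((Nat.Coprime.pow_right 6 ((Nat.prime_three.coprime_iff_not_dvd.2 h3).symm))).dvd_of_dvd_mul_left
      (show Nat.card H ∣ 3 ^ 6 * 5 from h36)
  exact Nat.le_of_dvd (by norm_num) this

end CfsgLib.OddBase
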