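import Cfsg.Agent.Lib.OddBase.Pairing
import Cfsg.Agent.Lib.OddBase.HBound
import Mathlib.GroupTheory.Sylow

/-!
The symplectic module `B / Z` and the order of the group induced on it.
-/

set_option autoImplicit false
set_option linter.unusedSectionVars false

namespace CfsgLib.OddBase

universe u

variable {A : Type u} [Group A] [Finite A]

/-- The conditions on a class two normal subgroup over a maximal abelian normal subgroup. -/
structure Frame (Z B C : Subgroup A) : Prop where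
  pair : Pairing Z B
  normalZ : ∀ g : A, ∀ a ∈ Z, g * a * g⁻¹ ∈ Z
  normalB : ∀ g : A, ∀ b ∈ B, g * b * g⁻¹ ∈ B
  normalC : ∀ g : A, ∀ c ∈ C, g * c * g⁻¹ ∈ C
  le : B ≤ C
  cent : ∀ c ∈ C, ∀ z ∈ Z, c * z = z * c
  self : C ⊓ Subgroup.centralizer (B : Set A) ≤ Z
  max : ∀ Y : Subgroup A, Z ≤ Y → Y ≤ B → (∀ a ∈ Y, ∀ b ∈ Y, a * b = b * a) →
    (∀ g : A, ∀ y ∈ Y, g * y * g⁻¹ ∈ Y) → Y ≤ Z

namespace Frame

variable {Z B C : Subgroup A}

theorem chi_pow (F : Frame Z B C) {y x : A} (hy : y ∈ B) (hx : x ∈ B) (k : ℕ) :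
    (y * x * y⁻¹ * x⁻¹) ^ k = y * x ^ k * y⁻¹ * (x ^ k)⁻¹ := by
  have h := (F.pair.chi y B le_rfl (fun w hw => F.pair.cl y hy w hw)).map_pow ⟨x, hx⟩ k
  exact (congrArg Subtype.val h).symm

/-- The quotient has elementary abelian Sylow subgroups. -/
theorem pow_mem_of_pow_sq_mem (F : Frame Z B C) (r : ℕ) {x : A} (hx : x ∈ B)
    (h : (x ^ r) ^ r ∈ Z) : x ^ r ∈ Z := by
  let S : Set A := {w | w ∈ Z ∨ ∃ t ∈ B, (t ^ r) ^ r ∈ Z ∧ w = t ^ r}
  have hSB : ∀ w ∈ S, w ∈ B := by
    rintro w (hw | ⟨t, ht, -, rfl⟩)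
    · exact F.pair.le hw
    · exact B.pow_mem ht r
  have hcomm : ∀ v ∈ S, ∀ w ∈ S, v * w = w * v := by
    rintro v (hv | ⟨s, hs, hs2, rfl⟩) w hw
    · exact F.pair.central v hv w (hSB w hw)
    · rcases hw with hw | ⟨t, ht, ht2, rfl⟩
      · exact (F.pair.central w hw _ (B.pow_mem hs r)).symm
      · have h1 : (t * s * t⁻¹ * s⁻¹) ^ (r * r) = 1 := by
          rw [F.chi_pow ht hs, pow_mul, ← F.pair.central _ hs2 t ht, mul_inv_cancel_right, mul_inv_cancel]
        have h2 : (s ^ r * t ^ r * (s ^ r)⁻¹ * (t ^ r)⁻¹) = 1 := by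
          rw [← F.chi_pow (B.pow_mem hs r) ht r,
            show s ^ r * t * (s ^ r)⁻¹ * t⁻¹ = (t * s ^ r * t⁻¹ * (s ^ r)⁻¹)⁻¹ by group,
            ← F.chi_pow ht hs r, inv_pow, ← pow_mul, h1, inv_one]
        rw [mul_inv_eq_one, mul_inv_eq_iff_eq_mul] at h2
        exact h2
  have hnorm : ∀ g : A, ∀ w ∈ S, g * w * g⁻¹ ∈ S := by
    rintro g w (hw | ⟨t, ht, ht2, rfl⟩)
    · exact Or.inl (F.normalZ g w hw)
    · refine Or.inr ⟨g * t * g⁻¹, F.normalB g t ht, ?_, (conj_pow).symm⟩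
      rw [conj_pow, conj_pow]
      exact F.normalZ g _ ht2
  have hle := F.max (Subgroup.closure S) (fun z hz => Subgroup.subset_closure (Or.inl hz))
    ((Subgroup.closure_le _).2 hSB) ?_ ?_
  · exact hle (Subgroup.subset_closure (Or.inr ⟨x, hx, h, rfl⟩))
  · have h1 : Subgroup.closure S ≤ Subgroup.centralizer S :=
      (Subgroup.closure_le _).2 fun v hv w hw => hcomm w hw v hv
    intro a ha b hb
    have h2 : Subgroup.closure S ≤ Subgroup.centralizer ({a} : Set A) :=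
      (Subgroup.closure_le _).2 fun w hw c hc => by
        rw [Set.mem_singleton_iff.1 hc]
        exact (h1 ha w hw).symm
    exact h2 hb a rfl
  · intro g y hy
    have : Subgroup.closure S ≤ (Subgroup.closure S).comap (MulAut.conj g).toMonoidHom :=
      (Subgroup.closure_le _).2 fun w hw => Subgroup.subset_closure (hnorm g w hw)
    exact this hy

theorem subgroupOf_normal (F : Frame Z B C) : (Z.subgroupOf B).Normal :=
  ⟨fun n hn g => F.normalZ g n hn⟩

theorem quotient_comm (F : Frame Z B C) (hN : (Z.subgroupOf B).Normal) (p q : ↥B ⧸ Z.subgroupOf B) :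
    (haveI := hN; p * q = q * p) := by
  haveI := hN
  induction p using QuotientGroup.induction_on with
  | H a =>
    induction q using QuotientGroup.induction_on with
    | H b =>
      rw [← QuotientGroup.mk_mul, ← QuotientGroup.mk_mul, QuotientGroup.eq]
      show ((a : A) * b)⁻¹ * ((b : A) * a) ∈ Z
      have := F.pair.cl _ (B.inv_mem b.2) _ (B.inv_mem a.2)
      rwa [show ((b : A))⁻¹ * (a : A)⁻¹ * (b : A)⁻¹⁻¹ * (a : A)⁻¹⁻¹ =
        ((a : A) * b)⁻¹ * ((b : A) * a) by group] at this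

theorem odd_relIndex (hodd : Odd (Nat.card A)) (H K : Subgroup A) : Odd (H.relIndex K) := by
  refine hodd.of_dvd_nat ?_
  exact (Subgroup.index_dvd_card _).trans K.card_subgroup_dvd_card

/-- The index of `B` in `C` is small. -/
theorem h_bounds (F : Frame Z B C) (hodd : Odd (Nat.card A)) {e : ℕ} (he : 1 < e)
    (hm : Z.relIndex B = e ^ 2) (hyp : Hyp.{u} (e ^ 2 + 1)) :
    2 * B.relIndex C ≤ e ^ 4 ∧ (e = 3 → B.relIndex C ≤ 1) ∧ (e = 5 → B.relIndex C ≤ 3) ∧
      (e = 7 → B.relIndex C ≤ 9) ∧ (e = 9 → B.relIndex C ≤ 5) := by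
  classical
  haveI hBn : B.Normal := ⟨fun b hb g => F.normalB g b hb⟩
  haveI hCn : C.Normal := ⟨fun c hc g => F.normalC g c hc⟩
  haveI hN := F.subgroupOf_normal
  let Q := ↥B ⧸ Z.subgroupOf B
  letI : CommGroup Q :=
    { (inferInstance : Group (↥B ⧸ Z.subgroupOf B)) with mul_comm := F.quotient_comm hN }
  let N := Z.subgroupOf B
  let ψ : A → (Q →* Q) := fun g => QuotientGroup.map N N
    (MulAut.conjNormal g : ↥B ≃* ↥B).toMonoidHom fun b hb => F.normalZ g b hb
  have hψ1 : ∀ q, ψ 1 q = q := fun q => by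
    induction q using QuotientGroup.induction_on with
    | H b =>
      show ((MulAut.conjNormal (1 : A) b : ↥B) : Q) = b
      rw [map_one, MulAut.one_apply]
  have hψ2 : ∀ g h q, ψ (g * h) q = ψ g (ψ h q) := fun g h q => by
    induction q using QuotientGroup.induction_on with
    | H b =>
      show ((MulAut.conjNormal (g * h) b : ↥B) : Q) =
        ((MulAut.conjNormal g (MulAut.conjNormal h b) : ↥B) : Q)
      rw [map_mul, MulAut.mul_apply]
  letI act : DistribMulAction A (Additive Q) :=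
    { smul := fun g v => Additive.ofMul (ψ g (Additive.toMul v))
      one_smul := fun v => congrArg Additive.ofMul (hψ1 (Additive.toMul v))
      mul_smul := fun g h v => congrArg Additive.ofMul (hψ2 g h (Additive.toMul v))
      smul_zero := fun g => congrArg Additive.ofMul (map_one (ψ g))
      smul_add := fun g v w => congrArg Additive.ofMul (map_mul (ψ g) _ _) }
  -- the class of an element of `B`
  let cl : ↥B → Additive Q := fun b => Additive.ofMul (b : Q)
  have hcl : Function.Surjective cl := fun v => by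
    obtain ⟨b, hb⟩ := QuotientGroup.mk_surjective (Additive.toMul v)
    exact ⟨b, by show Additive.ofMul (b : Q) = v; rw [hb]; rfl⟩
  have hsmul : ∀ (g : A) (b : ↥B), g • cl b = cl ⟨g * b * g⁻¹, F.normalB g b b.2⟩ := fun g b => rfl
  have hcl_eq : ∀ b b' : ↥B, cl b = cl b' ↔ (b : A)⁻¹ * b' ∈ Z := fun b b' =>
    Additive.ofMul.injective.eq_iff.trans QuotientGroup.eq
  let pre : AddSubgroup (Additive Q) → Subgroup A := fun U =>
    ((AddSubgroup.toSubgroup' U).comap (QuotientGroup.mk' N)).map B.subtype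
  have hpre : ∀ U g, g ∈ pre U ↔ ∃ b : ↥B, cl b ∈ U ∧ (b : A) = g := fun U g => Iff.rfl
  have hpreB : ∀ U, pre U ≤ B := fun U g hg => by
    obtain ⟨b, -, rfl⟩ := (hpre U g).1 hg
    exact b.2
  have hpreZ : ∀ U, Z ≤ pre U := fun U z hz => (hpre U z).2 ⟨⟨z, F.pair.le hz⟩, by
    have : cl ⟨z, F.pair.le hz⟩ = cl 1 := ((hcl_eq _ _).2 (by simpa using Z.inv_mem hz))
    rw [this]
    exact U.zero_mem, rfl⟩
  have hcard : ∀ U, Z.relIndex (pre U) = Nat.card ↥U := fun U => by
    have hZ : Z = N.map B.subtype := (Subgroup.map_subgroupOf_eq_of_le F.pair.le).symm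
    conv_lhs => rw [hZ]
    rw [Subgroup.relIndex_map_map_of_injective _ _ B.subtype_injective]
    conv_lhs => arg 1; rw [← QuotientGroup.ker_mk' N, ← MonoidHom.comap_bot]
    rw [Subgroup.relIndex_comap,
      Subgroup.map_comap_eq_self_of_surjective (QuotientGroup.mk'_surjective N),
      Subgroup.relIndex_bot_left]
    rfl
  let perp : AddSubgroup (Additive Q) → AddSubgroup (Additive Q) := fun U =>
    { carrier := {v | ∃ b : ↥B, (b : A) ∈ Subgroup.centralizer (pre U : Set A) ∧ cl b = v}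
      zero_mem' := ⟨1, Subgroup.one_mem _, rfl⟩
      add_mem' := by
        rintro _ _ ⟨b, hb, rfl⟩ ⟨c, hc, rfl⟩
        exact ⟨b * c, Subgroup.mul_mem _ hb hc, rfl⟩
      neg_mem' := by
        rintro _ ⟨b, hb, rfl⟩
        exact ⟨b⁻¹, Subgroup.inv_mem _ hb, rfl⟩ }
  have hperp_pre : ∀ U, pre (perp U) = B ⊓ Subgroup.centralizer (pre U : Set A) := fun U => by
    refine le_antisymm (fun g hg => ?_) fun g hg => (hpre _ g).2 ⟨⟨g, hg.1⟩, ⟨⟨g, hg.1⟩, hg.2, rfl⟩, rfl⟩
    obtain ⟨b, ⟨b', hb', he⟩, rfl⟩ := (hpre _ g).1 hg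
    refine ⟨b.2, ?_⟩
    have hz := (hcl_eq _ _).1 he
    have : (b : A) = (b' : A) * ((b' : A)⁻¹ * b) := by group
    rw [this]
    exact Subgroup.mul_mem _ hb'
      (fun y hy => (F.pair.central _ hz y (hpreB U hy)).symm)
  have hQ : Nat.card (Additive Q) = e ^ 2 :=
    (Nat.card_congr Additive.toMul).trans hm
  have hperp_card : ∀ U, Nat.card ↥(perp U) * Nat.card ↥U = e ^ 2 := fun U => by
    rw [← hcard (perp U), hperp_pre, ← hcard U,
      ← F.pair.relIndex_perp (pre U) (hpreZ U) (hpreB U),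
      Subgroup.relIndex_mul_relIndex _ _ _ ?_ inf_le_left, hm]
    rw [← hperp_pre]
    exact hpreZ _
  have hinv_pre : ∀ (U : AddSubgroup (Additive Q)) (g : A), (∀ v ∈ U, g • v ∈ U) →
      ∀ y ∈ pre U, g * y * g⁻¹ ∈ pre U := by
    intro U g hg y hy
    obtain ⟨b, hb, rfl⟩ := (hpre U y).1 hy
    exact (hpre U _).2 ⟨⟨g * b * g⁻¹, F.normalB g b b.2⟩, hg _ hb, rfl⟩
  have hinv_perp : ∀ (U : AddSubgroup (Additive Q)) (g : A), (∀ v ∈ U, g⁻¹ • v ∈ U) →
      ∀ v ∈ perp U, g • v ∈ perp U := by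
    rintro U g hg _ ⟨b, hb, rfl⟩
    refine ⟨⟨g * b * g⁻¹, F.normalB g b b.2⟩, fun y hy => ?_, rfl⟩
    have h1 := hb (g⁻¹ * y * g⁻¹⁻¹) (hinv_pre U g⁻¹ hg y hy)
    show y * (g * b * g⁻¹) = g * b * g⁻¹ * y
    calc y * (g * b * g⁻¹) = g * ((g⁻¹ * y * g⁻¹⁻¹) * b) * g⁻¹ := by group
      _ = g * (b * (g⁻¹ * y * g⁻¹⁻¹)) * g⁻¹ := by rw [h1]
      _ = g * b * g⁻¹ * y := by group
  have hcr : CR A (Additive Q) := by
    intro U hU
    have hW : Inv A (Additive Q) (perp U) := fun g v hv => hinv_perp U g (hU g⁻¹) v hv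
    have hdis : U ⊓ perp U = ⊥ := by
      have hle : pre U ⊓ pre (perp U) ≤ Z := by
        refine F.max _ (le_inf (hpreZ U) (hpreZ _)) (inf_le_left.trans (hpreB U))
          (fun a ha b hb => ?_) fun g y hy => ⟨hinv_pre U g (hU g) y hy.1, hinv_pre _ g (hW g) y hy.2⟩
        have hb2 : b ∈ B ⊓ Subgroup.centralizer (pre U : Set A) := hperp_pre U ▸ hb.2
        exact hb2.2 a ha.1
      rw [eq_bot_iff]
      intro v hv
      obtain ⟨b, rfl⟩ := hcl v
      have hb : (b : A) ∈ Z := hle ⟨(hpre U _).2 ⟨b, hv.1, rfl⟩, (hpre _ _).2 ⟨b, hv.2, rfl⟩⟩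
      have : cl b = cl 1 := (hcl_eq _ _).2 (by simpa using Z.inv_mem hb)
      rw [AddSubgroup.mem_bot, this]
      rfl
    refine ⟨perp U, hW, hdis, eq_top_iff.2 fun v _ => ?_⟩
    let φ : ↥U × ↥(perp U) → Additive Q := fun p => (p.1 : Additive Q) + p.2
    have hφ : Function.Injective φ := by
      intro p q e
      have h1 : (p.1 : Additive Q) - q.1 = (q.2 : Additive Q) - p.2 := by
        rw [sub_eq_sub_iff_add_eq_add, add_comm (q.2 : Additive Q)]
        exact e
      have h2 : (p.1 : Additive Q) - q.1 ∈ U ⊓ perp U :=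
        ⟨U.sub_mem p.1.2 q.1.2, h1 ▸ (perp U).sub_mem q.2.2 p.2.2⟩
      rw [hdis, AddSubgroup.mem_bot] at h2
      refine Prod.ext (Subtype.ext (sub_eq_zero.1 h2)) (Subtype.ext ?_)
      rw [h2, eq_comm, sub_eq_zero] at h1
      exact h1.symm
    have hbij : Function.Bijective φ := (Nat.bijective_iff_injective_and_card φ).2
      ⟨hφ, by rw [Nat.card_prod, mul_comm, hperp_card, hQ]⟩
    obtain ⟨p, rfl⟩ := hbij.2 v
    exact AddSubgroup.mem_sup.2 ⟨_, p.1.2, _, p.2.2, rfl⟩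
  -- the kernel of the action of `C`
  have hkerB : ∀ c : ↥C, (∀ v : Additive Q, c • v = v) → c ∈ B.subgroupOf C := by
    intro c hc
    obtain ⟨b, hb, hbx⟩ := F.pair.realise (g := (c : A)) (fun z hz => F.cent c c.2 z hz) fun x hx => by
      have h1 := (hcl_eq _ _).1 (hc (cl ⟨x, hx⟩)).symm
      have h2 := F.normalZ x _ h1
      have e : x * (x⁻¹ * ((c : A) * x * (c : A)⁻¹)) * x⁻¹ = (c : A) * x * (c : A)⁻¹ * x⁻¹ := by group
      exact e ▸ h2
    have hmem : b⁻¹ * c ∈ Z := by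
      refine F.self ⟨C.mul_mem (C.inv_mem (F.le hb)) c.2, fun x hx => ?_⟩
      have h1 := hbx x hx
      calc x * (b⁻¹ * c) = b⁻¹ * (b * x * b⁻¹) * c := by group
        _ = b⁻¹ * c * x := by rw [← h1]; group
    show (c : A) ∈ B
    rw [show (c : A) = b * (b⁻¹ * c) by group]
    exact B.mul_mem hb (F.pair.le hmem)
  have hBker : ∀ c : ↥C, c ∈ B.subgroupOf C → ∀ v : Additive Q, c • v = v := by
    intro c hc v
    obtain ⟨b, rfl⟩ := hcl v
    show (c : A) • cl b = cl b
    rw [hsmul, hcl_eq]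
    have := F.pair.cl (c : A) hc _ (B.inv_mem b.2)
    rwa [show (c : A) * (b : A)⁻¹ * (c : A)⁻¹ * (b : A)⁻¹⁻¹ =
      ((c : A) * b * (c : A)⁻¹)⁻¹ * b by group] at this
  have hcrC : CR ↥C (Additive Q) := hcr.normal C
  have hoddC : Odd (Nat.card ↥C) := hodd.of_dvd_nat C.card_subgroup_dvd_card
  haveI : Nontrivial (Additive Q) := by
    rw [← Finite.one_lt_card_iff_nontrivial, hQ]
    exact Nat.one_lt_pow two_ne_zero he
  have hbase : Base ↥C (Additive Q) := hyp ↥C (Additive Q) (by omega) hoddC hcrC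
  have h1 := hbase.two_mul_index_le hoddC (B.subgroupOf C) hkerB
  rw [hQ, ← pow_mul] at h1
  -- the faithful quotient
  let K := B.subgroupOf C
  let actH : DistribMulAction (↥C ⧸ K) (Additive Q) :=
    DistribMulAction.compHom (Additive Q)
      (QuotientGroup.lift K (DistribMulAction.toAddMonoidEnd ↥C (Additive Q))
        (fun c hc => AddMonoidHom.ext fun v => hBker c hc v))
  letI := actH
  have hmkH : ∀ (c : ↥C) (v : Additive Q), (c : ↥C ⧸ K) • v = c • v := fun c v => rfl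
  haveI : FaithfulSMul (↥C ⧸ K) (Additive Q) := by
    refine ⟨fun {p q} h => ?_⟩
    induction p using QuotientGroup.induction_on with
    | H a =>
      induction q using QuotientGroup.induction_on with
      | H b =>
        rw [QuotientGroup.eq]
        refine hkerB _ fun v => ?_
        rw [mul_smul, inv_smul_eq_iff, ← hmkH, ← hmkH]
        exact (h v).symm
  have hcrH : CR (↥C ⧸ K) (Additive Q) := by
    intro U hU
    obtain ⟨W, hW, hdis, hsup⟩ := hcrC U fun c v hv => hmkH c v ▸ hU c v hv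
    refine ⟨W, fun q v hv => ?_, hdis, hsup⟩
    induction q using QuotientGroup.induction_on with
    | H c => rw [hmkH]; exact hW c v hv
  have hoddH : Odd (Nat.card (↥C ⧸ K)) := hodd.of_dvd_nat
    ((Subgroup.index_dvd_card K).trans C.card_subgroup_dvd_card)
  have hexp : ∀ r : ℕ, ∀ b : ↥B, (((b : A) ^ r) ^ r ∈ Z) → r • cl b = 0 := by
    intro r b hb
    have h2 := F.pow_mem_of_pow_sq_mem r b.2 hb
    show Additive.ofMul (((b ^ r : ↥B)) : Q) = 0
    rw [ofMul_eq_zero, QuotientGroup.eq_one_iff]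
    exact h2
  have hpowm : ∀ b : ↥B, (b : A) ^ (e ^ 2) ∈ Z := by
    intro b
    have h2 : ((b : Q)) ^ Nat.card Q = 1 := pow_card_eq_one'
    rw [← QuotientGroup.mk_pow, QuotientGroup.eq_one_iff, show Nat.card Q = e ^ 2 from hm] at h2
    exact h2
  have hprime : ∀ p : ℕ, [Fact p.Prime] → e = p → ∀ v : Additive Q, p • v = 0 := by
    intro p _ hep v
    obtain ⟨b, rfl⟩ := hcl v
    refine hexp p b ?_
    rw [← pow_mul, ← pow_two, ← hep]
    exact hpowm b
  refine ⟨h1, ?_, ?_, ?_, ?_⟩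
  · rintro rfl
    haveI : Fact (Nat.Prime 3) := ⟨by norm_num⟩
    exact (bound_two hoddH hcrH 3 (hprime 3 rfl) hQ).1 rfl
  · rintro rfl
    haveI : Fact (Nat.Prime 5) := ⟨by norm_num⟩
    exact (bound_two hoddH hcrH 5 (hprime 5 rfl) hQ).2.1 rfl
  · rintro rfl
    haveI : Fact (Nat.Prime 7) := ⟨by norm_num⟩
    exact (bound_two hoddH hcrH 7 (hprime 7 rfl) hQ).2.2 rfl
  · rintro rfl
    have h3 : ∀ v : Additive Q, 3 • v = 0 := by
      intro v
      obtain ⟨b, rfl⟩ := hcl v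
      have s1 : ((b : A) ^ 9) ^ 3 ∈ Z :=
        F.pow_mem_of_pow_sq_mem 3 (B.pow_mem b.2 9) (by
          rw [← pow_mul, ← pow_mul]; exact hpowm b)
      have s2 : ((b : A) ^ 3) ^ 3 ∈ Z :=
        F.pow_mem_of_pow_sq_mem 3 (B.pow_mem b.2 3) (by
          rw [← pow_mul, ← pow_mul]; rw [← pow_mul] at s1; exact s1)
      exact hexp 3 b s2
    refine bound_four hoddH hcrH h3 (by rw [hQ]; norm_num) fun v hv0 => ?_
    haveI : Fact (Nat.Prime 3) := ⟨by norm_num⟩
    have hord : addOrderOf v = 3 := addOrderOf_eq_prime (h3 v) hv0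
    refine ⟨perp (AddSubgroup.zmultiples v), ?_, ?_, ?_⟩
    · obtain ⟨b, rfl⟩ := hcl v
      refine ⟨b, fun y hy => ?_, rfl⟩
      obtain ⟨y', hy', rfl⟩ := (hpre _ _).1 hy
      obtain ⟨k, hk⟩ := AddSubgroup.mem_zmultiples_iff.1 hy'
      have hk' : cl y' = cl (b ^ k) := hk.symm
      have hz := (hcl_eq _ _).1 hk'.symm
      have hz' : ((b : A) ^ k)⁻¹ * (y' : A) ∈ Z := by simpa using hz
      have hc1 : Commute (b : A) (((b : A) ^ k)⁻¹ * y') := (F.pair.central _ hz' b b.2).symm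
      have hc2 : Commute (b : A) ((b : A) ^ k) := (Commute.refl (b : A)).zpow_right k
      have := hc2.mul_right hc1
      rw [mul_inv_cancel_left] at this
      exact this.symm
    · have := hperp_card (AddSubgroup.zmultiples v)
      rw [Nat.card_zmultiples, hord] at this
      omega
    · intro q hq x hx
      induction q using QuotientGroup.induction_on with
      | H c =>
        rw [hmkH] at hq ⊢
        refine hinv_perp _ (c : A) (fun w hw => ?_) x hx
        obtain ⟨k, rfl⟩ := AddSubgroup.mem_zmultiples_iff.1 hw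
        rw [smul_comm, show (c : A)⁻¹ • v = v from inv_smul_eq_iff.2 hq.symm]
        exact AddSubgroup.mem_zmultiples_iff.2 ⟨k, rfl⟩

end Frame

end CfsgLib.OddBase
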