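import Mathlib.Tactic.Linarith
import Mathlib.Tactic.NormNum.Prime
import Mathlib.Tactic.IntervalCases
import Mathlib.Tactic.Ring

/-!
Arithmetic for the count of non-regular pairs.
-/

set_option autoImplicit false

namespace CfsgLib.OddBase

theorem big_le {e : ℕ} (he : 21 ≤ e) : 27 * e ^ 18 ≤ 8 * 4 ^ (2 * e) := by
  induction e, he using Nat.le_induction with
  | base => norm_num
  | succ n hn ih =>
    have h1 : (21 * (n + 1)) ^ 18 ≤ (22 * n) ^ 18 := Nat.pow_le_pow_left (by omega) 18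
    have h2 : (22 : ℕ) ^ 18 ≤ 16 * 21 ^ 18 := by norm_num
    rw [mul_pow, mul_pow] at h1
    have h3 : (n + 1) ^ 18 ≤ 16 * n ^ 18 := by
      refine Nat.le_of_mul_le_mul_left (h1.trans ?_) (by norm_num : 0 < 21 ^ 18)
      calc 22 ^ 18 * n ^ 18 ≤ (16 * 21 ^ 18) * n ^ 18 := Nat.mul_le_mul_right _ h2
        _ = 21 ^ 18 * (16 * n ^ 18) := by ring
    calc 27 * (n + 1) ^ 18 ≤ 27 * (16 * n ^ 18) := Nat.mul_le_mul_left _ h3
      _ = 16 * (27 * n ^ 18) := by ring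
      _ ≤ 16 * (8 * 4 ^ (2 * n)) := Nat.mul_le_mul_left _ ih
      _ = 8 * 4 ^ (2 * (n + 1)) := by ring

theorem arith_big {e L n h : ℕ} (he : 3 < e) (hodd : Odd e) (hL : 4 ≤ L) (hn : e ≤ n)
    (hprimes : ∀ r, r.Prime → r ∣ e → r + 1 ≤ L) (hh : 2 * h ≤ e ^ 4) (h5 : e = 5 → h ≤ 3)
    (h7 : e = 7 → h ≤ 9) (h9 : e = 9 → h ≤ 5) : 27 * (e ^ 2 * h) ^ 3 ≤ (L ^ n) ^ 2 := by
  have hmono : L ^ (2 * e) ≤ (L ^ n) ^ 2 := by
    rw [← pow_mul]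
    exact Nat.pow_le_pow_right (by omega) (by omega)
  refine le_trans ?_ hmono
  have h2 : 8 * (e ^ 2 * h) ^ 3 ≤ e ^ 18 := by
    calc 8 * (e ^ 2 * h) ^ 3 = e ^ 6 * (2 * h) ^ 3 := by ring
      _ ≤ e ^ 6 * (e ^ 4) ^ 3 := Nat.mul_le_mul_left _ (Nat.pow_le_pow_left hh 3)
      _ = e ^ 18 := by ring
  have hsmall : ∀ M : ℕ, M ≤ L → ∀ bound : ℕ, h ≤ bound → 27 * (e ^ 2 * bound) ^ 3 ≤ M ^ (2 * e) →
      27 * (e ^ 2 * h) ^ 3 ≤ L ^ (2 * e) := by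
    intro M hM bound hb hle
    refine le_trans (Nat.mul_le_mul_left _ (Nat.pow_le_pow_left (Nat.mul_le_mul_left _ hb) 3)) ?_
    exact hle.trans (Nat.pow_le_pow_left hM _)
  have hmid : ∀ M : ℕ, M ≤ L → 27 * e ^ 18 ≤ 8 * M ^ (2 * e) →
      27 * (e ^ 2 * h) ^ 3 ≤ L ^ (2 * e) := by
    intro M hM hle
    have h3 : 8 * (27 * (e ^ 2 * h) ^ 3) ≤ 8 * M ^ (2 * e) := by
      calc 8 * (27 * (e ^ 2 * h) ^ 3) = 27 * (8 * (e ^ 2 * h) ^ 3) := by ring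
        _ ≤ 27 * e ^ 18 := Nat.mul_le_mul_left _ h2
        _ ≤ _ := hle
    exact (Nat.le_of_mul_le_mul_left h3 (by norm_num)).trans (Nat.pow_le_pow_left hM _)
  by_cases h21 : 21 ≤ e
  · exact hmid 4 hL (big_le h21)
  have hp : ∀ r, r.Prime → r ∣ e → r + 1 ≤ L := hprimes
  obtain ⟨k, rfl⟩ := hodd
  have hk : k < 10 := by omega
  have hk2 : 2 ≤ k := by omega
  interval_cases k
  · exact hsmall 6 (hp 5 (by norm_num) (by norm_num)) 3 (h5 rfl) (by norm_num)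
  · exact hsmall 8 (hp 7 (by norm_num) (by norm_num)) 9 (h7 rfl) (by norm_num)
  · exact hsmall 4 hL 5 (h9 rfl) (by norm_num)
  · exact hmid 12 (hp 11 (by norm_num) (by norm_num)) (by norm_num)
  · exact hmid 14 (hp 13 (by norm_num) (by norm_num)) (by norm_num)
  · exact hmid 6 (hp 5 (by norm_num) (by norm_num)) (by norm_num)
  · exact hmid 18 (hp 17 (by norm_num) (by norm_num)) (by norm_num)
  · exact hmid 20 (hp 19 (by norm_num) (by norm_num)) (by norm_num)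

theorem arith_out_big {z N L n : ℕ} (hz : z ≤ L) (hn : 3 ≤ n)
    (h : 27 * N ^ 3 ≤ (L ^ n) ^ 2) : (2 * (z ^ 2 * N)) ^ 3 ≤ (L ^ n) ^ 4 := by
  rcases Nat.eq_zero_or_pos L with rfl | hL
  · obtain rfl : z = 0 := by omega
    simp
  have h1 : z ^ 6 ≤ (L ^ n) ^ 2 := by
    calc z ^ 6 ≤ L ^ 6 := Nat.pow_le_pow_left hz 6
      _ ≤ L ^ (2 * n) := Nat.pow_le_pow_right hL (by omega)
      _ = (L ^ n) ^ 2 := by rw [← pow_mul, mul_comm]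
  calc (2 * (z ^ 2 * N)) ^ 3 = z ^ 6 * (8 * N ^ 3) := by ring
    _ ≤ (L ^ n) ^ 2 * (L ^ n) ^ 2 := Nat.mul_le_mul h1 (by omega)
    _ = (L ^ n) ^ 4 := by ring

theorem arith_three {z L n : ℕ} (hz : z + 1 ≤ L) (hz3 : 3 ≤ z) (hn : 3 ≤ n) :
    27 * 9 ^ 3 ≤ (L ^ n) ^ 4 ∧ (2 * (z ^ 2 * 9)) ^ 3 ≤ (L ^ n) ^ 4 := by
  have h12 : L ^ 12 ≤ (L ^ n) ^ 4 := by
    rw [← pow_mul]
    exact Nat.pow_le_pow_right (by omega) (by omega)
  refine ⟨le_trans ?_ h12, le_trans ?_ h12⟩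
  · exact le_trans (by norm_num) (Nat.pow_le_pow_left (show 4 ≤ L by omega) 12)
  · have h1 : 5 * z ≤ (z + 1) ^ 2 := by nlinarith
    calc (2 * (z ^ 2 * 9)) ^ 3 = 5832 * z ^ 6 := by ring
      _ ≤ 15625 * z ^ 6 := Nat.mul_le_mul_right _ (by norm_num)
      _ = (5 * z) ^ 6 := by ring
      _ ≤ ((z + 1) ^ 2) ^ 6 := Nat.pow_le_pow_left h1 6
      _ = (z + 1) ^ 12 := by ring
      _ ≤ L ^ 12 := Nat.pow_le_pow_left hz 12

/-- The final estimate. -/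
theorem arith_final {v N X FC FO BC BO : ℕ} (T : ℕ) (hv : 3 ≤ v) (hN : 27 * N ^ 3 * T ≤ v ^ 6)
    (hX : (2 * X) ^ 3 ≤ v ^ 4) (hFC : FC ^ 3 ≤ T) (hFO : FO ^ 3 ≤ v ^ 2)
    (hBC : 2 * BC ≤ 3 * (N * FC)) (hBO : 2 * BO ≤ X * FO) : BC + BO + 1 < v * v := by
  have h1 : 3 * (N * FC) ≤ v * v := by
    refine (Nat.pow_le_pow_iff_left (by norm_num : 3 ≠ 0)).1 ?_
    calc (3 * (N * FC)) ^ 3 = 27 * N ^ 3 * FC ^ 3 := by ring
      _ ≤ 27 * N ^ 3 * T := Nat.mul_le_mul_left _ hFC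
      _ ≤ v ^ 6 := hN
      _ = (v * v) ^ 3 := by ring
  have h2 : 2 * (X * FO) ≤ v * v := by
    refine (Nat.pow_le_pow_iff_left (by norm_num : 3 ≠ 0)).1 ?_
    calc (2 * (X * FO)) ^ 3 = (2 * X) ^ 3 * FO ^ 3 := by ring
      _ ≤ v ^ 4 * v ^ 2 := Nat.mul_le_mul hX hFO
      _ = (v * v) ^ 3 := by ring
  nlinarith

end CfsgLib.OddBase
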