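import Mathlib.GroupTheory.GroupAction.Quotient
import Mathlib.GroupTheory.Index
import Mathlib.GroupTheory.GroupAction.Blocks
import Mathlib.GroupTheory.OrderOfElement
import Mathlib.Data.Finite.Perm
import Mathlib.Tactic.Abel
import Mathlib.Data.Set.Card
import Mathlib.Order.Preorder.Finite
import Mathlib.Data.Finite.Prod
import Mathlib.Algebra.Group.Subgroup.Lattice
import Mathlib.Algebra.GroupWithZero.Action.Prod

/-!
Groups of odd order acting completely reducibly: definitions and elementary lemmas.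
-/

set_option autoImplicit false
set_option linter.unusedSectionVars false

namespace CfsgLib.OddBase

universe u v

section Defs

variable (A : Type u) (V : Type v) [Group A] [AddCommGroup V] [DistribMulAction A V]

/-- `U` is invariant. -/
def Inv (U : AddSubgroup V) : Prop := ∀ a : A, ∀ x ∈ U, a • x ∈ U

/-- Every invariant subgroup has an invariant complement. -/
def CR : Prop :=
  ∀ U : AddSubgroup V, Inv A V U → ∃ W : AddSubgroup V, Inv A V W ∧ U ⊓ W = ⊥ ∧ U ⊔ W = ⊤

/-- Two vectors whose common stabilizer acts trivially. -/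
def Good (p : V × V) : Prop := ∀ a : A, a • p.1 = p.1 → a • p.2 = p.2 → ∀ x : V, a • x = x

/-- There are two vectors whose common stabilizer acts trivially. -/
def Base : Prop := ∃ p : V × V, Good A V p

end Defs

/-- The induction hypothesis: bases exist for all modules of order less than `n`. -/
def Hyp (n : ℕ) : Prop :=
  ∀ (A V : Type u) [Group A] [Finite A] [AddCommGroup V] [Finite V] [DistribMulAction A V],
    Nat.card V < n → Odd (Nat.card A) → CR A V → Base A V

theorem Hyp.mono {n m : ℕ} (h : Hyp.{u} n) (hmn : m ≤ n) : Hyp.{u} m := by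
  intro A V _ _ _ _ _ hV
  exact h A V (lt_of_lt_of_le hV hmn)

theorem fix_of_fix_fix {A X : Type*} [Group A] [Finite A] [MulAction A X]
    (hodd : Odd (Nat.card A)) (a : A) (x : X) (h : a • a • x = x) : a • x = x := by
  obtain ⟨k, hk⟩ := hodd.of_dvd_nat (orderOf_dvd_natCard a)
  have h2 : ∀ i : ℕ, a ^ (2 * i) • x = x := by
    intro i
    induction i with
    | zero => simp
    | succ i ih => rw [Nat.mul_succ, pow_succ, pow_succ, mul_smul, mul_smul, h, ih]
  have h1 : a ^ (2 * k + 1) • x = x := by rw [← hk, pow_orderOf_eq_one, one_smul]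
  rw [pow_succ', mul_smul, h2] at h1
  exact h1

variable {A : Type u} {V : Type v} [Group A] [AddCommGroup V] [DistribMulAction A V]

instance finite_addSubgroup {M : Type v} [AddCommGroup M] [Finite M] : Finite (AddSubgroup M) :=
  Finite.of_injective (fun U => (U : Set M)) SetLike.coe_injective

/-- The action on an invariant subgroup. -/
@[reducible] def actOn (U : AddSubgroup V) (hU : Inv A V U) : DistribMulAction A ↥U where
  smul a x := ⟨a • (x : V), hU a x x.2⟩
  one_smul x := Subtype.ext (one_smul A (x : V))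
  mul_smul a b x := Subtype.ext (mul_smul a b (x : V))
  smul_zero a := Subtype.ext (smul_zero a)
  smul_add a x y := Subtype.ext (smul_add a (x : V) (y : V))

theorem Inv.sup {U W : AddSubgroup V} (hU : Inv A V U) (hW : Inv A V W) : Inv A V (U ⊔ W) := by
  intro a x hx
  obtain ⟨y, hy, z, hz, rfl⟩ := AddSubgroup.mem_sup.1 hx
  rw [smul_add]
  exact AddSubgroup.mem_sup.2 ⟨_, hU a y hy, _, hW a z hz, rfl⟩

theorem Inv.inf {U W : AddSubgroup V} (hU : Inv A V U) (hW : Inv A V W) : Inv A V (U ⊓ W) :=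
  fun a x hx => ⟨hU a x hx.1, hW a x hx.2⟩

theorem exists_irreducible [Finite V] {W : AddSubgroup V} (hW : Inv A V W) (h0 : W ≠ ⊥) :
    ∃ S : AddSubgroup V, S ≤ W ∧ Inv A V S ∧ S ≠ ⊥ ∧
      ∀ T : AddSubgroup V, Inv A V T → T ≤ S → T = ⊥ ∨ T = S := by
  obtain ⟨S, ⟨hS1, hS2, hS3⟩, hmin⟩ := Set.Finite.exists_minimal
    (s := {S : AddSubgroup V | S ≤ W ∧ Inv A V S ∧ S ≠ ⊥}) (Set.toFinite _)
    ⟨W, le_rfl, hW, h0⟩
  refine ⟨S, hS1, hS2, hS3, fun T hT hle => ?_⟩
  by_cases hT0 : T = ⊥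
  · exact Or.inl hT0
  · exact Or.inr (le_antisymm hle (hmin ⟨hle.trans hS1, hT, hT0⟩ hle))

/-- Complete reducibility passes to invariant subgroups. -/
theorem CR.res (h : CR A V) (W : AddSubgroup V) (hW : Inv A V W) :
    @CR A ↥W _ _ (actOn W hW) := by
  let _ := actOn W hW
  intro U hU
  have hU' : Inv A V (U.map W.subtype) := by
    rintro a x ⟨y, hy, rfl⟩
    exact ⟨a • y, hU a y hy, rfl⟩
  obtain ⟨T, hT, hdis, hsup⟩ := h _ hU'
  refine ⟨T.comap W.subtype, fun a y hy => hT a _ hy, ?_, ?_⟩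
  · rw [eq_bot_iff]
    intro y hy
    have : (y : V) ∈ U.map W.subtype ⊓ T := ⟨⟨y, hy.1, rfl⟩, hy.2⟩
    rw [hdis, AddSubgroup.mem_bot] at this
    exact AddSubgroup.mem_bot.2 (Subtype.ext this)
  · rw [eq_top_iff]
    intro y _
    have : (y : V) ∈ U.map W.subtype ⊔ T := by rw [hsup]; trivial
    obtain ⟨_, ⟨u, hu, rfl⟩, t, ht, hut⟩ := AddSubgroup.mem_sup.1 this
    refine AddSubgroup.mem_sup.2 ⟨u, hu, y - u, ?_, by simp⟩
    show (y : V) - (u : V) ∈ T
    rw [← hut]
    simpa using ht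

/-- Complete reducibility passes to normal subgroups. -/
theorem CR.normal [Finite V] (h : CR A V) (C : Subgroup A) [hC : C.Normal] : CR ↥C V := by
  classical
  let soc : AddSubgroup V := ⨆ S : {S : AddSubgroup V // Inv ↥C V S ∧ S ≠ ⊥ ∧
    ∀ T : AddSubgroup V, Inv ↥C V T → T ≤ S → T = ⊥ ∨ T = S}, (S : AddSubgroup V)
  have hsocA : Inv A V soc := by
    intro a x hx
    refine AddSubgroup.iSup_induction _ (C := fun y => a • y ∈ soc) hx ?_ ?_ ?_
    · rintro ⟨S, hS1, hS2, hS3⟩ y hy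
      let f := DistribSMul.toAddMonoidHom V a
      let g := DistribSMul.toAddMonoidHom V a⁻¹
      have hgf : ∀ z, g (f z) = z := fun z => inv_smul_smul a z
      have hfg : ∀ z, f (g z) = z := fun z => smul_inv_smul a z
      have h1 : Inv ↥C V (S.map f) := by
        rintro c _ ⟨z, hz, rfl⟩
        refine ⟨(⟨a⁻¹ * (c : A) * a, by simpa using hC.conj_mem _ c.2 a⁻¹⟩ : C) • z, hS1 _ z hz, ?_⟩
        show a • ((a⁻¹ * (c : A) * a) • z) = (c : A) • (a • z)
        rw [mul_smul, mul_smul, smul_inv_smul]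
      have h2 : S.map f ≠ ⊥ := by
        intro e
        apply hS2
        rw [eq_bot_iff]
        intro z hz
        have h3 : f z ∈ S.map f := ⟨z, hz, rfl⟩
        rw [e, AddSubgroup.mem_bot] at h3
        rw [AddSubgroup.mem_bot, ← hgf z, h3, map_zero]
      have h3 : ∀ T : AddSubgroup V, Inv ↥C V T → T ≤ S.map f → T = ⊥ ∨ T = S.map f := by
        intro T hT hle
        have h4 : Inv ↥C V (T.map g) := by
          rintro c _ ⟨z, hz, rfl⟩
          refine ⟨(⟨a * (c : A) * a⁻¹, hC.conj_mem _ c.2 a⟩ : C) • z, hT _ z hz, ?_⟩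
          show a⁻¹ • ((a * (c : A) * a⁻¹) • z) = (c : A) • (a⁻¹ • z)
          rw [mul_smul, mul_smul, inv_smul_smul]
        have h5 : T.map g ≤ S := by
          rintro _ ⟨z, hz, rfl⟩
          obtain ⟨s, hs, rfl⟩ := hle hz
          rw [hgf]
          exact hs
        have h6 : T = (T.map g).map f := by
          ext z
          refine ⟨fun hz => ⟨g z, ⟨z, hz, rfl⟩, hfg z⟩, ?_⟩
          rintro ⟨_, ⟨w, hw, rfl⟩, rfl⟩
          rw [hfg]
          exact hw
        rcases hS3 _ h4 h5 with e | e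
        · left; rw [h6, e, AddSubgroup.map_bot]
        · right; rw [h6, e]
      exact AddSubgroup.mem_iSup_of_mem
        (S := fun S : {S : AddSubgroup V // Inv ↥C V S ∧ S ≠ ⊥ ∧
          ∀ T : AddSubgroup V, Inv ↥C V T → T ≤ S → T = ⊥ ∨ T = S} => (S : AddSubgroup V))
        ⟨S.map f, h1, h2, h3⟩ (⟨y, hy, rfl⟩ : f y ∈ S.map f)
    · rw [smul_zero]; exact soc.zero_mem
    · intro y z hy hz
      rw [smul_add]
      exact soc.add_mem hy hz
  have htop : soc = ⊤ := by
    obtain ⟨T, hT, hdis, hsup⟩ := h soc hsocA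
    by_cases hT0 : T = ⊥
    · rwa [hT0, sup_bot_eq] at hsup
    · obtain ⟨S, hST, hS1, hS2, hS3⟩ := exists_irreducible (A := ↥C) (fun c x hx => hT c x hx) hT0
      exfalso
      refine hS2 (eq_bot_iff.2 ?_)
      rw [← hdis]
      exact le_inf (le_iSup (fun S : {S : AddSubgroup V // Inv ↥C V S ∧ S ≠ ⊥ ∧
          ∀ T : AddSubgroup V, Inv ↥C V T → T ≤ S → T = ⊥ ∨ T = S} => (S : AddSubgroup V))
        ⟨S, hS1, hS2, hS3⟩) hST
  intro U hU
  obtain ⟨W, ⟨hW, hUW⟩, hmax⟩ := Set.Finite.exists_maximal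
    (s := {W : AddSubgroup V | Inv ↥C V W ∧ U ⊓ W = ⊥}) (Set.toFinite _)
    ⟨⊥, fun c x hx => by rw [AddSubgroup.mem_bot] at hx ⊢; rw [hx, smul_zero], inf_bot_eq U⟩
  refine ⟨W, hW, hUW, eq_top_iff.2 ?_⟩
  rw [← htop]
  refine iSup_le ?_
  rintro ⟨S, hS1, hS2, hS3⟩
  by_contra hnot
  rcases hS3 _ (hS1.inf (hU.sup hW)) inf_le_left with e | e
  · have hdis : U ⊓ (W ⊔ S) = ⊥ := by
      rw [eq_bot_iff]
      intro x hx
      obtain ⟨w, hw, s, hs, rfl⟩ := AddSubgroup.mem_sup.1 hx.2
      have hs' : s ∈ S ⊓ (U ⊔ W) := ⟨hs, AddSubgroup.mem_sup.2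
        ⟨w + s, hx.1, -w, W.neg_mem hw, by abel⟩⟩
      rw [e, AddSubgroup.mem_bot] at hs'
      rw [hs', add_zero] at hx ⊢
      rw [← hUW]
      exact ⟨hx.1, hw⟩
    exact hnot ((le_sup_right.trans (hmax ⟨hW.sup hS1, hdis⟩ le_sup_left)).trans le_sup_right)
  · exact hnot (e.ge.trans inf_le_right)

theorem Good.swap {p : V × V} (hp : Good A V p) : Good A V (p.2, p.1) :=
  fun a h1 h2 => hp a h2 h1

theorem not_swap [Finite A] (hodd : Odd (Nat.card A)) {p : V × V}
    (hne : p.1 ≠ p.2) (a : A) : ¬ (a • p.1 = p.2 ∧ a • p.2 = p.1) := by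
  rintro ⟨h1, h2⟩
  refine hne ?_
  rw [← h1]
  exact (fix_of_fix_fix hodd a _ (by rw [h1, h2])).symm

theorem Base.two_orbits [Finite A] [Nontrivial V] (hodd : Odd (Nat.card A)) (h : Base A V) :
    ∃ p : V × V, Good A V p ∧ Good A V (p.2, p.1) ∧
      ∀ a : A, ¬ (a • p.1 = p.2 ∧ a • p.2 = p.1) := by
  obtain ⟨⟨x, y⟩, hp⟩ := h
  by_cases hxy : x = y
  · subst hxy
    by_cases hx : x = 0
    · subst hx
      obtain ⟨z, hz⟩ := exists_ne (0 : V)
      have hg : Good A V (z, 0) := fun a _ _ => hp a (smul_zero a) (smul_zero a)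
      exact ⟨(z, 0), hg, hg.swap, fun a => not_swap hodd hz a⟩
    · have hg : Good A V (x, 0) := fun a h1 _ => hp a h1 h1
      exact ⟨(x, 0), hg, hg.swap, fun a => not_swap hodd hx a⟩
  · exact ⟨(x, y), hp, hp.swap, fun a => not_swap hodd hxy a⟩

/-- A group with a base of two vectors has twice its order at most the square of the module. -/
theorem Base.two_mul_index_le [Finite A] [Finite V] [Nontrivial V] (hodd : Odd (Nat.card A))
    (h : Base A V) (K : Subgroup A) (hK : ∀ a : A, (∀ x : V, a • x = x) → a ∈ K) :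
    2 * K.index ≤ Nat.card V ^ 2 := by
  obtain ⟨p, hp, hp', hne⟩ := h.two_orbits hodd
  have key : ∀ q : V × V, Good A V q → K.index ≤ (MulAction.orbit A q).ncard := by
    intro q hq
    rw [← MulAction.index_stabilizer]
    refine Nat.le_of_dvd (Nat.pos_of_ne_zero Subgroup.index_ne_zero_of_finite)
      (Subgroup.index_dvd_of_le fun a ha => ?_)
    rw [MulAction.mem_stabilizer_iff, Prod.ext_iff] at ha
    exact hK a (hq a ha.1 ha.2)
  have hdis : Disjoint (MulAction.orbit A p) (MulAction.orbit A (p.2, p.1)) := by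
    refine (MulAction.orbit.eq_or_disjoint p (p.2, p.1)).resolve_left fun e => ?_
    obtain ⟨a, ha⟩ : (p.2, p.1) ∈ MulAction.orbit A p := by rw [e]; exact MulAction.mem_orbit_self _
    simp only [Prod.ext_iff, Prod.smul_fst, Prod.smul_snd] at ha
    exact hne a ha
  have hle := Set.ncard_le_card (MulAction.orbit A p ∪ MulAction.orbit A (p.2, p.1))
  rw [Set.ncard_union_eq hdis, Nat.card_prod] at hle
  have := key p hp
  have := key _ hp'
  rw [pow_two]
  omega

end CfsgLib.OddBase
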