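import Cfsg.Agent.Lib.OddBase.Basic
import Mathlib.GroupTheory.SpecificGroups.Cyclic
import Mathlib.GroupTheory.QuotientGroup.Basic
import Mathlib.GroupTheory.Sylow
import Mathlib.Algebra.BigOperators.Group.Finset.Sigma
import Mathlib.Algebra.Order.BigOperators.Group.Finset

/-!
Counting the pairs with non-trivial stabilizer.
-/

set_option autoImplicit false
set_option linter.unusedSectionVars false

namespace CfsgLib.OddBase

variable {A X : Type*} [Group A] [Finite A] [Finite X] [MulAction A X]

theorem count_out (hodd : Odd (Nat.card A)) (C : Subgroup A) (F : ℕ)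
    (hF : ∀ a : A, a ∉ C → Nat.card {x : X // a • x = x} ≤ F) :
    2 * Nat.card {x : X // ∃ a : A, a ∉ C ∧ a • x = x} ≤ Nat.card A * F := by
  classical
  haveI := Fintype.ofFinite A
  haveI := Fintype.ofFinite X
  let S : Finset A := Finset.univ.filter fun a => a ∉ C
  let Bad : Finset X := Finset.univ.filter fun x => ∃ a : A, a ∉ C ∧ a • x = x
  let I : Finset (A × X) := Finset.univ.filter fun q => q.1 ∉ C ∧ q.1 • q.2 = q.2
  have h1 : Nat.card {x : X // ∃ a : A, a ∉ C ∧ a • x = x} = Bad.card := by
    rw [Nat.card_eq_fintype_card, Fintype.card_subtype]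
  have h2 : I.card ≤ Nat.card A * F := by
    have := Finset.card_le_mul_card_image_of_maps_to (f := fun q : A × X => q.1) (t := S) (s := I)
      (fun q hq => by simp only [I, S, Finset.mem_filter] at hq ⊢; exact ⟨Finset.mem_univ _, hq.2.1⟩)
      F (fun a ha => ?_)
    · calc I.card ≤ F * S.card := this
        _ ≤ F * Nat.card A := Nat.mul_le_mul_left _ (by
          rw [Nat.card_eq_fintype_card, ← Finset.card_univ]
          exact Finset.card_le_card (Finset.subset_univ _))
        _ = Nat.card A * F := Nat.mul_comm _ _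
    · simp only [S, Finset.mem_filter] at ha
      refine le_trans ?_ (hF a ha.2)
      rw [Nat.card_eq_fintype_card, Fintype.card_subtype]
      refine Finset.card_le_card_of_injOn Prod.snd (fun q hq => ?_) ?_
      · simp only [I, Finset.coe_filter, Finset.mem_filter, Finset.mem_univ, true_and,
          Set.mem_ofPred_eq] at hq ⊢
        rw [← hq.2]
        exact hq.1.2
      · intro q hq q' hq' e
        simp only [I, Finset.coe_filter, Finset.mem_filter, Finset.mem_univ, true_and,
          Set.mem_ofPred_eq] at hq hq'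
        exact Prod.ext (hq.2.trans hq'.2.symm) e
  have h3 : 2 * Bad.card ≤ I.card := by
    refine Finset.mul_card_image_le_card_of_maps_to (f := fun q : A × X => q.2) ?_ 2 fun x hx => ?_
    · intro q hq
      simp only [I, Bad, Finset.coe_filter, Finset.mem_filter, Finset.mem_univ, true_and,
        Set.mem_ofPred_eq] at hq ⊢
      exact ⟨q.1, hq⟩
    · simp only [Bad, Finset.mem_filter] at hx
      obtain ⟨a, ha, hax⟩ := hx.2
      refine Finset.one_lt_card.2 ⟨(a, x), ?_, (a⁻¹, x), ?_, fun e => ha ?_⟩
      · simp [I, ha, hax]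
      · simp [I, ha, inv_smul_eq_iff, hax]
      · have hinv : a = a⁻¹ := congrArg Prod.fst e
        have hsq : a ^ 2 = 1 := by rw [pow_two]; nth_rewrite 2 [hinv]; exact mul_inv_cancel a
        have hd := orderOf_dvd_of_pow_eq_one hsq
        rcases (Nat.dvd_prime Nat.prime_two).1 hd with e1 | e1
        · rw [orderOf_eq_one_iff] at e1
          rw [e1]
          exact C.one_mem
        · exfalso
          have := hodd.of_dvd_nat (orderOf_dvd_natCard a)
          rw [e1] at this
          exact absurd this (by decide)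
  omega

theorem count_in (hodd : Odd (Nat.card A)) (Z C : Subgroup A) (hZC : Z ≤ C) (hcyc : IsCyclic ↥Z)
    (hcent : ∀ z ∈ Z, ∀ c ∈ C, z * c = c * z) (F : ℕ)
    (hF : ∀ a ∈ C, a ∉ Z → Nat.card {x : X // a • x = x} ≤ F) (P : X → Prop)
    (hP : ∀ x, P x → ∀ z ∈ Z, z • x = x → z = 1) :
    2 * Nat.card {x : X // P x ∧ ∃ a ∈ C, a ≠ 1 ∧ a • x = x} ≤
      3 * (Z.relIndex C * F) := by
  classical
  haveI := Fintype.ofFinite A
  haveI := Fintype.ofFinite X
  haveI := hcyc
  let N : Subgroup ↥C := Z.subgroupOf C
  haveI : N.Normal := ⟨fun n hn g => by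
    have : (g * n * g⁻¹ : ↥C) = n := Subtype.ext (by
      show (g : A) * n * (g : A)⁻¹ = n
      rw [← hcent n hn g g.2, mul_inv_cancel_right])
    rw [this]
    exact hn⟩
  haveI := Fintype.ofFinite (↥C ⧸ N)
  let Bad : Finset X := Finset.univ.filter fun x => P x ∧ ∃ a ∈ C, a ≠ 1 ∧ a • x = x
  let BadR : ℕ → Finset X := fun r => Finset.univ.filter fun x =>
    P x ∧ ∃ a ∈ C, orderOf a = r ∧ a • x = x
  let QR : ℕ → Finset (↥C ⧸ N) := fun r => Finset.univ.filter fun q => orderOf q = r
  let R : Finset ℕ := (Nat.card A).primeFactors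
  have hsub : Bad ⊆ R.biUnion BadR := by
    intro x hx
    simp only [Bad, Finset.mem_filter] at hx
    obtain ⟨hPx, a, haC, ha1, hax⟩ := hx.2
    obtain ⟨r, hr, hrd⟩ := Nat.exists_prime_and_dvd (fun h => ha1 (orderOf_eq_one_iff.1 h))
    refine Finset.mem_biUnion.2 ⟨r, ?_, ?_⟩
    · exact Nat.mem_primeFactors.2 ⟨hr, hrd.trans (orderOf_dvd_natCard a), Nat.card_pos.ne'⟩
    · simp only [BadR, Finset.mem_filter, Finset.mem_univ, true_and]
      refine ⟨hPx, a ^ (orderOf a / r), C.pow_mem haC _, orderOf_pow_orderOf_div (orderOf_pos a).ne' hrd, ?_⟩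
      exact MulAction.mem_stabilizer_iff.1
        ((MulAction.stabilizer A x).pow_mem (MulAction.mem_stabilizer_iff.2 hax) _)
  have hR : ∀ r ∈ R, 2 * (BadR r).card ≤ 3 * ((QR r).card * F) := by
    intro r hr
    obtain ⟨hrp, hrd, -⟩ := Nat.mem_primeFactors.1 hr
    have hr3 : 3 ≤ r := by
      have h2 := hrp.two_le
      rcases Nat.lt_or_ge r 3 with h | h
      · exfalso
        obtain rfl : r = 2 := by omega
        exact (Nat.not_even_iff_odd.2 hodd) (even_iff_two_dvd.2 hrd)
      · exact h
    let I : Finset ((↥C ⧸ N) × X) := Finset.univ.filter fun q =>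
      P q.2 ∧ ∃ a : ↥C, (a : ↥C ⧸ N) = q.1 ∧ orderOf a = r ∧ (a : A) • q.2 = q.2
    have hnotZ : ∀ (a : ↥C) (x : X), P x → orderOf a = r → (a : A) • x = x → (a : A) ∉ Z := by
      intro a x hx ha hax hZ
      have := hP x hx _ hZ hax
      rw [OneMemClass.coe_eq_one] at this
      rw [this, orderOf_one] at ha
      exact hrp.one_lt.ne ha
    have h1 : (r - 1) * (BadR r).card ≤ I.card := by
      refine Finset.mul_card_image_le_card_of_maps_to (f := fun q : (↥C ⧸ N) × X => q.2) ?_ _
        fun x hx => ?_
      · intro q hq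
        simp only [I, BadR, Finset.coe_filter, Finset.mem_filter, Finset.mem_univ, true_and,
          Set.mem_ofPred_eq] at hq ⊢
        obtain ⟨hPq, a, -, ha, hax⟩ := hq
        exact ⟨hPq, a, a.2, by rwa [Subgroup.orderOf_coe], hax⟩
      · simp only [BadR, Finset.mem_filter, Finset.mem_univ, true_and] at hx
        obtain ⟨hPx, a₀, haC, ha, hax⟩ := hx
        let a : ↥C := ⟨a₀, haC⟩
        have hao : orderOf a = r := by rw [← Subgroup.orderOf_coe]; exact ha
        have hfix : ∀ i : ℕ, ((a ^ i : ↥C) : A) • x = x := fun i => by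
          rw [Subgroup.coe_pow]
          exact MulAction.mem_stabilizer_iff.1
            ((MulAction.stabilizer A x).pow_mem (MulAction.mem_stabilizer_iff.2 hax) i)
        let f : ℕ → (↥C ⧸ N) × X := fun i => (((a ^ (i + 1) : ↥C) : ↥C ⧸ N), x)
        calc r - 1 = (Finset.range (r - 1)).card := (Finset.card_range _).symm
          _ ≤ _ := Finset.card_le_card_of_injOn f (fun i hi => ?_) ?_
        · rw [Finset.coe_range, Set.mem_Iio] at hi
          simp only [I, f, Finset.coe_filter, Finset.mem_filter, Finset.mem_univ, true_and,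
            Set.mem_ofPred_eq]
          refine ⟨⟨hPx, a ^ (i + 1), rfl, ?_, hfix _⟩, trivial⟩
          rw [orderOf_pow, hao, Nat.Coprime.gcd_eq_one, Nat.div_one]
          exact (hrp.coprime_iff_not_dvd.2 fun hd => by
            have := Nat.le_of_dvd (Nat.succ_pos i) hd
            omega)
        · intro i hi j hj e
          rw [Finset.coe_range, Set.mem_Iio] at hi hj
          have e1 : ((a ^ (i + 1) : ↥C) : ↥C ⧸ N) = ((a ^ (j + 1) : ↥C) : ↥C ⧸ N) :=
            congrArg Prod.fst e
          rw [QuotientGroup.eq] at e1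
          have e1' : (((a ^ (i + 1))⁻¹ * a ^ (j + 1) : ↥C) : A) ∈ Z := e1
          have e2 := hP x hPx _ e1' (by
            rw [Subgroup.coe_mul, mul_smul, hfix, Subgroup.coe_inv, inv_smul_eq_iff, hfix])
          rw [OneMemClass.coe_eq_one, inv_mul_eq_one] at e2
          have := pow_inj_mod.1 e2
          rw [hao, Nat.mod_eq_of_lt (by omega), Nat.mod_eq_of_lt (by omega)] at this
          omega
    have h2 : I.card ≤ r * F * (QR r).card := by
      refine Finset.card_le_mul_card_image_of_maps_to (f := fun q : (↥C ⧸ N) × X => q.1) ?_ _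
        fun q hq => ?_
      · intro q hq
        simp only [I, QR, Finset.mem_filter, Finset.mem_univ, true_and] at hq ⊢
        obtain ⟨hPq, a, ha, hao, hax⟩ := hq
        rw [← ha]
        refine orderOf_eq_prime (p := r) (hp := ⟨hrp⟩) (by rw [← QuotientGroup.mk_pow, ← hao, pow_orderOf_eq_one, QuotientGroup.mk_one]) ?_
        rw [Ne, QuotientGroup.eq_one_iff]
        exact hnotZ a _ hPq hao hax
      · simp only [QR, Finset.mem_filter, Finset.mem_univ, true_and] at hq
        let L : Finset ↥C := Finset.univ.filter fun a : ↥C => (a : ↥C ⧸ N) = q ∧ orderOf a = r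
        have hL : L.card ≤ r := by
          rcases L.eq_empty_or_nonempty with hL0 | ⟨a₀, ha₀⟩
          · rw [hL0, Finset.card_empty]; exact Nat.zero_le _
          simp only [L, Finset.mem_filter, Finset.mem_univ, true_and] at ha₀
          have hle := IsCyclic.card_pow_eq_one_le (α := ↥Z) hrp.pos
          refine le_trans ?_ hle
          have hmem : ∀ a ∈ L, ((a₀⁻¹ * a : ↥C) : A) ∈ Z := by
            intro a ha
            simp only [L, Finset.mem_filter, Finset.mem_univ, true_and] at ha
            have h := ha₀.1.trans ha.1.symm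
            rw [QuotientGroup.eq] at h
            exact h
          refine Finset.card_le_card_of_injOn
            (fun a => if h : ((a₀⁻¹ * a : ↥C) : A) ∈ Z then (⟨_, h⟩ : ↥Z) else 1) (fun a ha => ?_) ?_
          · have hz := hmem a ha
            simp only [Finset.coe_filter, Finset.mem_univ, true_and, Set.mem_ofPred_eq,
              dif_pos hz]
            simp only [L, Finset.coe_filter, Finset.mem_filter, Finset.mem_univ, true_and,
              Set.mem_ofPred_eq] at ha
            refine Subtype.ext ?_
            show ((a₀⁻¹ * a : ↥C) : A) ^ r = 1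
            have hc : Commute a₀⁻¹ a := Subtype.ext (by
              have h3 : ((a₀⁻¹ * a : ↥C) : A) * (a₀ : A) = (a₀ : A) * ((a₀⁻¹ * a : ↥C) : A) :=
                hcent _ hz _ a₀.2
              show ((a₀ : A))⁻¹ * (a : A) = (a : A) * (a₀ : A)⁻¹
              rw [eq_mul_inv_iff_mul_eq]
              calc (a₀ : A)⁻¹ * (a : A) * a₀ = ((a₀⁻¹ * a : ↥C) : A) * a₀ := rfl
                _ = (a₀ : A) * ((a₀⁻¹ * a : ↥C) : A) := h3
                _ = a := by simp)
            rw [← Subgroup.coe_pow, hc.mul_pow, inv_pow]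
            rw [show a₀ ^ r = 1 from ha₀.2 ▸ pow_orderOf_eq_one a₀, show a ^ r = 1 from ha.2 ▸ pow_orderOf_eq_one a]
            simp
          · intro a ha b hb e
            simp only [dif_pos (hmem a ha), dif_pos (hmem b hb), Subtype.mk.injEq] at e
            exact mul_left_cancel (Subtype.ext e : a₀⁻¹ * a = a₀⁻¹ * b)
        have hfib : (I.filter fun p => p.1 = q) ⊆
            L.biUnion fun a => (Finset.univ.filter fun x : X => P x ∧ (a : A) • x = x).image
              fun x => (q, x) := by
          intro p hp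
          simp only [I, Finset.mem_filter, Finset.mem_univ, true_and] at hp
          obtain ⟨⟨hPp, a, ha, hao, hax⟩, rfl⟩ := hp
          refine Finset.mem_biUnion.2 ⟨a, ?_, ?_⟩
          · simp [L, ha, hao]
          · exact Finset.mem_image.2 ⟨p.2, by simp [hPp, hax], rfl⟩
        refine (Finset.card_le_card hfib).trans (Finset.card_biUnion_le.trans ?_)
        refine (Finset.sum_le_card_nsmul _ _ F fun a ha => ?_).trans
          (by rw [smul_eq_mul]; exact Nat.mul_le_mul_right _ hL)
        refine Finset.card_image_le.trans ?_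
        rcases (Finset.univ.filter fun x : X => P x ∧ (a : A) • x = x).eq_empty_or_nonempty with
          h0 | ⟨x, hx⟩
        · rw [h0, Finset.card_empty]; exact Nat.zero_le _
        simp only [Finset.mem_filter, Finset.mem_univ, true_and] at hx
        simp only [L, Finset.mem_filter, Finset.mem_univ, true_and] at ha
        refine le_trans ?_ (hF a a.2 (hnotZ a x hx.1 ha.2 hx.2))
        rw [Nat.card_eq_fintype_card, Fintype.card_subtype]
        exact Finset.card_le_card fun y hy => by
          simp only [Finset.mem_filter, Finset.mem_univ, true_and] at hy ⊢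
          exact hy.2
    have h3 : (r - 1) * (BadR r).card ≤ r * F * (QR r).card := h1.trans h2
    refine Nat.le_of_mul_le_mul_left ?_ (show 0 < r - 1 by omega)
    calc (r - 1) * (2 * (BadR r).card) = 2 * ((r - 1) * (BadR r).card) := by
          rw [Nat.mul_left_comm]
      _ ≤ 2 * (r * F * (QR r).card) := Nat.mul_le_mul_left _ h3
      _ = (2 * r) * (F * (QR r).card) := by simp only [Nat.mul_assoc]
      _ ≤ (3 * (r - 1)) * (F * (QR r).card) := Nat.mul_le_mul_right _ (by omega)
      _ = (r - 1) * (3 * ((QR r).card * F)) := by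
          rw [Nat.mul_comm 3 (r - 1), Nat.mul_comm F, Nat.mul_assoc]
  have hdis : (∑ r ∈ R, (QR r).card) ≤ Z.relIndex C := by
    rw [← Finset.card_biUnion]
    · show _ ≤ Nat.card (↥C ⧸ N)
      rw [Nat.card_eq_fintype_card, ← Finset.card_univ]
      exact Finset.card_le_card (Finset.subset_univ _)
    · intro r _ s _ hrs
      rw [Function.onFun, Finset.disjoint_left]
      intro q hq hq'
      simp only [QR, Finset.mem_filter] at hq hq'
      exact hrs (hq.2.symm.trans hq'.2)
  rw [Nat.card_eq_fintype_card, Fintype.card_subtype]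
  calc 2 * Bad.card ≤ 2 * (R.biUnion BadR).card := Nat.mul_le_mul_left _ (Finset.card_le_card hsub)
    _ ≤ 2 * ∑ r ∈ R, (BadR r).card := Nat.mul_le_mul_left _ Finset.card_biUnion_le
    _ = ∑ r ∈ R, 2 * (BadR r).card := Finset.mul_sum _ _ _
    _ ≤ ∑ r ∈ R, 3 * ((QR r).card * F) := Finset.sum_le_sum hR
    _ = 3 * ((∑ r ∈ R, (QR r).card) * F) := by rw [Finset.sum_mul, Finset.mul_sum]
    _ ≤ 3 * (Z.relIndex C * F) := Nat.mul_le_mul_left _ (Nat.mul_le_mul_right _ hdis)

end CfsgLib.OddBase
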