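import Cfsg.Agent.Lib.OddBase.Basic
import Cfsg.Agent.Lib.Solvable.Primitive
import Cfsg.Agent.S0205
import Mathlib.Tactic.Abel
import Mathlib.Tactic.FinCases
import Mathlib.Tactic.Module

/-!
A permutation group of odd order has a regular orbit on the power set (Gluck), given bases for smaller
modules.
-/

set_option autoImplicit false
set_option linter.unusedSectionVars false

open scoped Pointwise

namespace CfsgLib.OddBase

universe u

/-- Some set of points has set stabilizer acting trivially. -/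
def Regular (A Ω : Type*) [Group A] [MulAction A Ω] : Prop :=
  ∃ S : Set Ω, ∀ a : A, (∀ x, a • x ∈ S ↔ x ∈ S) → ∀ x : Ω, a • x = x

theorem regular_of_not_transitive {A Ω : Type*} [Group A] [MulAction A Ω] (ω : Ω)
    (h1 : Regular A ↥(MulAction.orbit A ω))
    (h2 : ∀ (K : Subgroup A) (O : SubMulAction K Ω), (O : Set Ω) = (MulAction.orbit A ω)ᶜ →
      Regular K O) : Regular A Ω := by
  obtain ⟨S1, hS1⟩ := h1
  let K : Subgroup A := fixingSubgroup A (MulAction.orbit A ω)
  let O : SubMulAction K Ω :=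
    { carrier := (MulAction.orbit A ω)ᶜ
      smul_mem' := fun k x hx h => hx (by
        obtain ⟨g, hg⟩ := h
        exact ⟨(k : A)⁻¹ * g, by
          show ((k : A)⁻¹ * g) • ω = x
          rw [mul_smul, show g • ω = (k : A) • x from hg, inv_smul_smul]⟩) }
  obtain ⟨S2, hS2⟩ := h2 K O rfl
  refine ⟨Subtype.val '' S1 ∪ Subtype.val '' S2, fun a ha x => ?_⟩
  have hiff : ∀ y : MulAction.orbit A ω,
      (y : Ω) ∈ Subtype.val '' S1 ∪ Subtype.val '' S2 ↔ y ∈ S1 := by
    intro y
    constructor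
    · rintro (⟨z, hz, e⟩ | ⟨z, -, e⟩)
      · rwa [← Subtype.ext e]
      · exact absurd (e ▸ y.2) z.2
    · exact fun hy => Or.inl ⟨y, hy, rfl⟩
  have hfix : ∀ y : MulAction.orbit A ω, a • y = y := hS1 a fun y => by
    rw [← hiff, ← hiff, MulAction.orbit.coe_smul, ha]
  have haK : a ∈ K := (mem_fixingSubgroup_iff A).2 fun y hy => congrArg Subtype.val (hfix ⟨y, hy⟩)
  by_cases hx : x ∈ MulAction.orbit A ω
  · exact congrArg Subtype.val (hfix ⟨x, hx⟩)
  · have hiff' : ∀ y : O, (y : Ω) ∈ Subtype.val '' S1 ∪ Subtype.val '' S2 ↔ y ∈ S2 := by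
      intro y
      constructor
      · rintro (⟨z, -, e⟩ | ⟨z, hz, e⟩)
        · exact absurd (e ▸ z.2) y.2
        · rwa [← Subtype.ext e]
      · exact fun hy => Or.inr ⟨y, hy, rfl⟩
    have := hS2 ⟨a, haK⟩ (fun y => by rw [← hiff', ← hiff']; exact ha y) ⟨x, hx⟩
    exact congrArg Subtype.val this

theorem regular_of_block {A Ω : Type*} [Group A] [Finite A] [MulAction A Ω]
    [MulAction.IsPretransitive A Ω] (hodd : Odd (Nat.card A)) (B : Set Ω) (hB : B.Nonempty)
    (h1 : Regular A ↥(MulAction.orbit A B))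
    (h2 : ∀ (O : SubMulAction (MulAction.stabilizer A B) Ω), (O : Set Ω) = B →
      Regular (MulAction.stabilizer A B) O)
    (hblock : MulAction.IsBlock A B) : Regular A Ω := by
  classical
  let H := MulAction.stabilizer A B
  let O : SubMulAction H Ω :=
    { carrier := B
      smul_mem' := fun k x hx => by
        have := Set.smul_mem_smul_set (a := (k : A)) hx
        rwa [MulAction.mem_stabilizer_iff.1 k.2] at this }
  obtain ⟨T, hT⟩ := h2 O rfl
  obtain ⟨Col, hCol⟩ := h1
  obtain ⟨ω₀, hω₀⟩ := hB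
  have htr : ∀ x : Ω, ∃ t : A, x ∈ t • B := fun x => by
    obtain ⟨t, rfl⟩ := MulAction.exists_smul_eq A ω₀ x
    exact ⟨t, Set.smul_mem_smul_set hω₀⟩
  let t : MulAction.orbit A B → A := fun b => Classical.choose b.2
  have ht : ∀ b : MulAction.orbit A B, t b • B = (b : Set Ω) := fun b => Classical.choose_spec b.2
  let S : Set Ω := {x | ∃ b : MulAction.orbit A B, x ∈ (b : Set Ω) ∧
    ∃ y : O, t b • (y : Ω) = x ∧ (b ∈ Col ↔ y ∈ T)}
  have hS : ∀ (b : MulAction.orbit A B) (y : O), t b • (y : Ω) ∈ S ↔ (b ∈ Col ↔ y ∈ T) := by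
    intro b y
    constructor
    · rintro ⟨b', hb', y', he, hiff⟩
      have hby : t b • (y : Ω) ∈ t b • B := Set.smul_mem_smul_set y.2
      have hbb : b' = b := by
        refine Subtype.ext ?_
        rw [← ht b', ← ht b]
        refine hblock.smul_eq_smul_of_nonempty ⟨t b • (y : Ω), ?_, hby⟩
        rw [ht b']
        exact hb'
      subst hbb
      rwa [← Subtype.ext (smul_left_cancel _ he)]
    · exact fun hiff => ⟨b, ht b ▸ Set.smul_mem_smul_set y.2, y, rfl, hiff⟩
  refine ⟨S, fun a ha x => ?_⟩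
  have hoddH : Odd (Nat.card H) := hodd.of_dvd_nat H.card_subgroup_dvd_card
  have key : ∀ b : MulAction.orbit A B, ((a • b) ∈ Col ↔ b ∈ Col) ∧
      ∀ y : O, (t (a • b))⁻¹ • a • t b • (y : Ω) = y := by
    intro b
    have hh : (t (a • b))⁻¹ * a * t b ∈ H := by
      rw [MulAction.mem_stabilizer_iff, mul_smul, mul_smul, ht]
      rw [← MulAction.orbit.coe_smul, ← ht (a • b), inv_smul_smul]
    let h : H := ⟨_, hh⟩
    have hy : ∀ y : O, t (a • b) • ((h • y : O) : Ω) = a • t b • (y : Ω) := by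
      intro y
      show t (a • b) • ((t (a • b))⁻¹ * a * t b) • (y : Ω) = _
      rw [mul_smul, mul_smul, smul_inv_smul]
    have hcol : ∀ y : O, (a • b ∈ Col ↔ h • y ∈ T) ↔ (b ∈ Col ↔ y ∈ T) := by
      intro y
      rw [← hS, ← hS, hy, ha]
    have hsame : (a • b ∈ Col ↔ b ∈ Col) := by
      by_contra hne
      have hflip : ∀ y : O, h • y ∈ T ↔ ¬ y ∈ T := fun y => by
        have := hcol y
        tauto
      have h2 : ∀ y : O, (h * h) • y = y := hT (h * h) fun y => by
        rw [mul_smul, hflip, hflip, not_not]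
      have h1 : h • (⟨ω₀, hω₀⟩ : O) = ⟨ω₀, hω₀⟩ :=
        fix_of_fix_fix hoddH h _ (by rw [← mul_smul]; exact h2 _)
      have := hflip ⟨ω₀, hω₀⟩
      rw [h1] at this
      tauto
    refine ⟨hsame, fun y => ?_⟩
    have h3 : ∀ y : O, h • y = y := hT h fun y => by
      have := hcol y
      tauto
    have h4 : (h : A) • (y : Ω) = y := congrArg Subtype.val (h3 y)
    rwa [show (h : A) = (t (a • b))⁻¹ * a * t b from rfl, mul_smul, mul_smul] at h4
  have hfix := hCol a fun b => (key b).1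
  obtain ⟨g, hg⟩ := htr x
  let b : MulAction.orbit A B := ⟨g • B, g, rfl⟩
  have hxb : x ∈ t b • B := by rw [ht]; exact hg
  obtain ⟨y, hy, rfl⟩ := hxb
  have := (key b).2 ⟨y, hy⟩
  rw [hfix b, inv_smul_eq_iff] at this
  exact this

/-- The coordinates of five points. -/
def five : Fin 5 → ℤ × ℤ := ![(0, 0), (1, 0), (-1, 0), (0, 1), (0, -1)]

theorem five_three : ∀ u s s' : Fin 5, u ≠ 0 → s ≠ u → s' ≠ u →
    ((five s).1 + (five s').1 - 2 * (five u).1) % 3 = 0 →
    ((five s).2 + (five s').2 - 2 * (five u).2) % 3 = 0 →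
    (s = 0 ∧ s' = ![0, 2, 1, 4, 3] u) ∨ (s' = 0 ∧ s = ![0, 2, 1, 4, 3] u) := by
  decide

theorem five_large : ∀ u s s' : Fin 5, u ≠ 0 → s ≠ u → s' ≠ u →
    (five s).1 + (five s').1 - 2 * (five u).1 = 0 →
    (five s).2 + (five s').2 - 2 * (five u).2 = 0 →
    (s = 0 ∧ s' = ![0, 2, 1, 4, 3] u) ∨ (s' = 0 ∧ s = ![0, 2, 1, 4, 3] u) := by
  decide

theorem five_small : ∀ u s s' : Fin 5,
    -4 ≤ (five s).1 + (five s').1 - 2 * (five u).1 ∧
    (five s).1 + (five s').1 - 2 * (five u).1 ≤ 4 ∧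
    -4 ≤ (five s).2 + (five s').2 - 2 * (five u).2 ∧
    (five s).2 + (five s').2 - 2 * (five u).2 ≤ 4 := by
  decide

/-- The origin is the only double centre of five points. -/
theorem double_centre {V : Type*} [AddCommGroup V] {p : ℕ} (hp : p.Prime) (hp2 : p ≠ 2) {x y : V}
    (hind : ∀ i j : ℤ, i • x + j • y = 0 → (p : ℤ) ∣ i ∧ (p : ℤ) ∣ j)
    {u s s' t t' : V} (hu : u ∈ ({0, x, -x, y, -y} : Set V)) (hs : s ∈ ({0, x, -x, y, -y} : Set V))
    (hs' : s' ∈ ({0, x, -x, y, -y} : Set V)) (ht : t ∈ ({0, x, -x, y, -y} : Set V))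
    (ht' : t' ∈ ({0, x, -x, y, -y} : Set V)) (nu1 : s ≠ u) (nu2 : s' ≠ u) (nu3 : t ≠ u)
    (nu4 : t' ≠ u) (e1 : s + s' = u + u) (e2 : t + t' = u + u) (nt : t ≠ s) (nt' : t ≠ s') :
    u = 0 := by
  let P : Fin 5 → V := fun i => (five i).1 • x + (five i).2 • y
  have hP : ∀ v ∈ ({0, x, -x, y, -y} : Set V), ∃ i, v = P i := by
    rintro v (rfl | rfl | rfl | rfl | rfl)
    · exact ⟨0, by simp [P, five]⟩
    · exact ⟨1, by simp [P, five]⟩
    · exact ⟨2, by simp [P, five]⟩
    · exact ⟨3, by simp [P, five]⟩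
    · exact ⟨4, by simp [P, five]⟩
  obtain ⟨iu, rfl⟩ := hP u hu
  by_contra hu0
  have hiu : iu ≠ 0 := by rintro rfl; exact hu0 (by simp [P, five])
  have key : ∀ i i' : Fin 5, P i ≠ P iu → P i' ≠ P iu → P i + P i' = P iu + P iu →
      (i = 0 ∧ i' = ![0, 2, 1, 4, 3] iu) ∨ (i' = 0 ∧ i = ![0, 2, 1, 4, 3] iu) := by
    intro i i' h1 h2 h3
    have hi : i ≠ iu := fun e => h1 (by rw [e])
    have hi' : i' ≠ iu := fun e => h2 (by rw [e])
    obtain ⟨hd1, hd2⟩ := hind ((five i).1 + (five i').1 - 2 * (five iu).1)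
      ((five i).2 + (five i').2 - 2 * (five iu).2) (by
        rw [← sub_eq_zero.2 h3]
        simp only [P]
        module)
    by_cases h3p : p = 3
    · subst h3p
      exact five_three iu i i' hiu hi hi' (Int.emod_eq_zero_of_dvd hd1) (Int.emod_eq_zero_of_dvd hd2)
    · have h5 : (5 : ℤ) ≤ p := by
        have h2 := hp.two_le
        have h4 : p ≠ 4 := by rintro rfl; exact absurd hp (by decide)
        omega
      obtain ⟨b1, b2, b3, b4⟩ := five_small iu i i'
      have z : ∀ k : ℤ, (p : ℤ) ∣ k → -4 ≤ k → k ≤ 4 → k = 0 := by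
        intro k hk ha hb
        by_contra hk0
        have := Int.natAbs_dvd_natAbs.2 hk
        have := Nat.le_of_dvd (by omega) this
        omega
      exact five_large iu i i' hiu hi hi' (z _ hd1 b1 b2) (z _ hd2 b3 b4)
  obtain ⟨is, rfl⟩ := hP s hs
  obtain ⟨is', rfl⟩ := hP s' hs'
  obtain ⟨it, rfl⟩ := hP t ht
  obtain ⟨it', rfl⟩ := hP t' ht'
  rcases key is is' nu1 nu2 e1 with ⟨a1, a2⟩ | ⟨a1, a2⟩ <;>
    rcases key it it' nu3 nu4 e2 with ⟨b1, b2⟩ | ⟨b1, b2⟩
  · exact nt (by rw [a1, b1])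
  · exact nt' (by rw [a2, b2])
  · exact nt' (by rw [a1, b1])
  · exact nt (by rw [a2, b2])

/-- The affine form of the five point set. -/
theorem affine_set {H V : Type*} [Group H] [Finite H] [AddCommGroup V] [DistribMulAction H V]
    (hodd : Odd (Nat.card H)) {p : ℕ} (hp : p.Prime) (hp2 : p ≠ 2) (hpV : ∀ v : V, (p : ℤ) • v = 0)
    (hb : Base H V) :
    ∃ S : Set V, ∀ (n : V) (h : H), (∀ v, n + h • v ∈ S ↔ v ∈ S) → n = 0 ∧ ∀ v : V, h • v = v := by
  classical
  by_cases hsmall : ∃ x : V, ∀ h : H, h • x = x → ∀ v : V, h • v = v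
  · obtain ⟨x, hx⟩ := hsmall
    refine ⟨{0, x}, fun n h hS => ?_⟩
    have h0 : n + h • (0 : V) ∈ ({0, x} : Set V) := (hS 0).2 (Or.inl rfl)
    have h1 : n + h • x ∈ ({0, x} : Set V) := (hS x).2 (Or.inr rfl)
    rw [smul_zero, add_zero] at h0
    by_cases hx0 : x = 0
    · subst hx0
      simp only [Set.mem_singleton_iff, Set.pair_eq_singleton] at h0
      exact ⟨h0, hx h (smul_zero h)⟩
    rcases h0 with rfl | hnx
    · refine ⟨rfl, hx h ?_⟩
      rw [zero_add] at h1
      rcases h1 with h1 | h1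
      · exact absurd ((smul_eq_zero_iff_eq h).1 h1) hx0
      · exact h1
    · rw [Set.mem_singleton_iff] at hnx
      subst hnx
      rcases h1 with h1 | h1
      · have h2 : h • n = -n := eq_neg_of_add_eq_zero_right h1
        have h3 := fix_of_fix_fix hodd h n (by rw [h2, smul_neg, h2, neg_neg])
        rw [h2] at h3
        exfalso
        refine hx0 ?_
        have h4 : (2 : ℤ) • n = 0 := by
          rw [two_smul]
          nth_rewrite 1 [← h3]
          exact neg_add_cancel n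
        obtain ⟨c, hc⟩ : ∃ c : ℕ, p = 2 * c + 1 := hp.odd_of_ne_two hp2
        have h5 := hpV n
        rw [hc, Nat.cast_add, Nat.cast_mul, add_smul, mul_comm, mul_smul] at h5
        simpa [h4] using h5
      · rw [Set.mem_singleton_iff, add_eq_left, smul_eq_zero_iff_eq] at h1
        exact absurd h1 hx0
  push Not at hsmall
  obtain ⟨⟨x, y⟩, hxy⟩ := hb
  have hx0 : x ≠ 0 := by
    rintro rfl
    obtain ⟨h, h1, v, h2⟩ := hsmall y
    exact h2 (hxy h (smul_zero h) h1 v)
  have hdvd : ∀ (v : V) (i : ℤ), v ≠ 0 → i • v = 0 → (p : ℤ) ∣ i := by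
    intro v i hv hi
    by_contra hnd
    obtain ⟨k, l, hkl⟩ : IsCoprime (p : ℤ) i := (Nat.prime_iff_prime_int.1 hp).coprime_iff_not_dvd.2 hnd
    apply hv
    rw [← one_smul ℤ v, ← hkl, add_smul, mul_smul, mul_smul, hpV, hi, smul_zero, smul_zero, add_zero]
  have hind : ∀ i j : ℤ, i • x + j • y = 0 → (p : ℤ) ∣ i ∧ (p : ℤ) ∣ j := by
    intro i j hij
    by_cases hj : (p : ℤ) ∣ j
    · obtain ⟨c, rfl⟩ := hj
      rw [mul_comm, mul_smul, hpV, smul_zero, add_zero] at hij
      exact ⟨hdvd x i hx0 hij, dvd_mul_right _ _⟩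
    · exfalso
      obtain ⟨k, l, hkl⟩ : IsCoprime (p : ℤ) j :=
        (Nat.prime_iff_prime_int.1 hp).coprime_iff_not_dvd.2 hj
      have hy : y = (-(l * i)) • x := by
        have : j • y = -(i • x) := eq_neg_of_add_eq_zero_right hij
        rw [← one_smul ℤ y, ← hkl, add_smul, mul_smul, mul_smul, hpV, smul_zero, zero_add, this,
          smul_neg, ← mul_smul, neg_smul]
      obtain ⟨h, h1, v, h2⟩ := hsmall x
      refine h2 (hxy h h1 ?_ v)
      show h • y = y
      rw [hy, smul_comm h, h1]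
  have hne : ∀ i j : ℤ, ¬ ((p : ℤ) ∣ i ∧ (p : ℤ) ∣ j) → i • x + j • y ≠ 0 :=
    fun i j hn e => hn (hind i j e)
  have hp3 : (3 : ℤ) ≤ p := by have := hp.two_le; omega
  have ndiv : ∀ k : ℤ, k ≠ 0 → -2 ≤ k → k ≤ 2 → ¬ (p : ℤ) ∣ k := by
    intro k h1 h2 h3 hd
    have h4 := Int.natAbs_dvd_natAbs.2 hd
    have := Nat.le_of_dvd (by omega) h4
    omega
  have a1 : x ≠ -x := fun e => hne 2 0 (fun hd => ndiv 2 (by decide) (by decide) (by decide) hd.1)
    (by rw [zero_smul, add_zero, two_smul]; nth_rewrite 1 [e]; exact neg_add_cancel x)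
  have a2 : x ≠ y := fun e => hne 1 (-1) (fun hd => ndiv 1 (by decide) (by decide) (by decide) hd.1)
    (by rw [e]; simp)
  have a3 : x ≠ -y := fun e => hne 1 1 (fun hd => ndiv 1 (by decide) (by decide) (by decide) hd.1)
    (by rw [e]; simp)
  have a4 : y ≠ -y := fun e => hne 0 2 (fun hd => ndiv 2 (by decide) (by decide) (by decide) hd.2)
    (by rw [zero_smul, zero_add, two_smul]; nth_rewrite 1 [e]; exact neg_add_cancel y)
  have hy0 : y ≠ 0 := fun e => a4 (by rw [e, neg_zero])
  refine ⟨{0, x, -x, y, -y}, fun n h hS => ?_⟩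
  let F : V → V := fun v => n + h • v
  have hF : Function.Injective F := fun v w e => smul_left_cancel h (add_left_cancel e)
  have hn : n = 0 := by
    have h0 : F 0 = n := by simp [F]
    rw [← h0]
    refine double_centre hp hp2 hind (s := F x) (s' := F (-x)) (t := F y) (t' := F (-y))
      ((hS 0).2 (by simp)) ((hS x).2 (by simp)) ((hS (-x)).2 (by simp)) ((hS y).2 (by simp))
      ((hS (-y)).2 (by simp)) (hF.ne hx0) (hF.ne (neg_ne_zero.2 hx0)) (hF.ne hy0)
      (hF.ne (neg_ne_zero.2 hy0)) ?_ ?_ (hF.ne a2.symm) (hF.ne fun e => a3 (by rw [e, neg_neg]))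
    · simp only [F, smul_neg, smul_zero, add_zero]; abel
    · simp only [F, smul_neg, smul_zero, add_zero]; abel
  subst hn
  refine ⟨rfl, ?_⟩
  have hmem : ∀ v : V, v ≠ 0 → v ∈ ({0, x, -x, y, -y} : Set V) →
      h • v = x ∨ h • v = -x ∨ h • v = y ∨ h • v = -y := by
    intro v hv hvS
    have := (hS v).2 hvS
    rw [zero_add] at this
    rcases this with e | e
    · exact absurd ((smul_eq_zero_iff_eq h).1 e) hv
    · exact e
  have back : ∀ v : V, h • h • v = v ∨ h • h • v = -v → h • v = v := by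
    intro v hv
    refine fix_of_fix_fix hodd h v ?_
    rcases hv with e | e
    · exact e
    · have h4 : (h * h) • (h * h) • v = v := by
        rw [mul_smul h h v, e, mul_smul, smul_neg, smul_neg, e, neg_neg]
      have := fix_of_fix_fix hodd (h * h) v h4
      rwa [mul_smul] at this
  have hpm : ∀ {a b : V}, (h • a = b ∨ h • a = -b) → h • (-a) = b ∨ h • (-a) = -b := by
    rintro a b (e | e) <;> rw [smul_neg, e]
    · exact Or.inr rfl
    · exact Or.inl (neg_neg b)
  have hx1 : h • x = x ∨ h • x = -x := by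
    by_contra hc
    push Not at hc
    have hxy' : h • x = y ∨ h • x = -y := by
      rcases hmem x hx0 (by simp) with e | e | e | e
      · exact absurd e hc.1
      · exact absurd e hc.2
      · exact Or.inl e
      · exact Or.inr e
    have hyx : h • y = x ∨ h • y = -x := by
      rcases hmem y hy0 (by simp) with e | e | e | e
      · exact Or.inl e
      · exact Or.inr e
      all_goals
        exfalso
        rcases hxy' with e' | e'
      · exact a2 (smul_left_cancel h (e'.trans e.symm))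
      · exact a3 (smul_left_cancel h (by rw [smul_neg, e, e']))
      · exact a3 (smul_left_cancel h (by rw [smul_neg, e, e', neg_neg]))
      · exact a2 (smul_left_cancel h (e'.trans e.symm))
    have hh : h • x = x := back x (by
      rcases hxy' with e | e <;> rw [e]
      · exact hyx
      · exact hpm hyx)
    exact hc.1 hh
  have hxx : h • x = x := by
    rcases hx1 with e | e
    · exact e
    · exact back x (Or.inl (by rw [e, smul_neg, e, neg_neg]))
  refine hxy h hxx ?_
  show h • y = y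
  rcases hmem y hy0 (by simp) with e | e | e | e
  · exact absurd (smul_left_cancel h (hxx.trans e.symm)) a2
  · exact absurd (smul_left_cancel h (show h • x = h • (-y) by rw [smul_neg, e, neg_neg, hxx])) a3
  · exact e
  · exact back y (Or.inl (by rw [e, smul_neg, e, neg_neg]))

theorem regular_of_primitive {Ω : Type u} [Finite Ω] [Nontrivial Ω] (G : Subgroup (Equiv.Perm Ω))
    (hodd : Odd (Nat.card G)) (hprim : MulAction.IsPreprimitive G Ω)
    (hyp : Hyp.{u} (Nat.card Ω + 1)) : Regular G Ω := by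
  classical
  haveI hsol : Group.IsSolvable ↥G := Cfsg.Agent.S0205.result hodd
  haveI : Nontrivial ↥G := by
    obtain ⟨a, b, hab⟩ := exists_pair_ne Ω
    obtain ⟨g, hg⟩ := hprim.toIsPretransitive.exists_smul_eq a b
    exact ⟨⟨g, 1, fun e => hab (by rw [← hg, e, one_smul])⟩⟩
  obtain ⟨N, ⟨hN1, hN2⟩, hNmin⟩ := Set.Finite.exists_minimal
    (s := {N : Subgroup ↥G | N.Normal ∧ N ≠ ⊥}) (Set.toFinite _)
    ⟨⊤, inferInstance, top_ne_bot⟩
  haveI := hN1
  have hmin : ∀ K : Subgroup ↥G, K.Normal → K ≤ N → K = ⊥ ∨ K = N := by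
    intro K hK hle
    by_cases hK0 : K = ⊥
    · exact Or.inl hK0
    · exact Or.inr (le_antisymm hle (hNmin ⟨hK, hK0⟩ hle))
  have hc := CfsgLib.Solvable.commute_of_minimal_normal N hN2 hmin inferInstance
  obtain ⟨p, k, hp, hk, hpN, hcard⟩ :=
    CfsgLib.Solvable.exists_pow_card_of_minimal_normal N hN2 hmin inferInstance
  obtain ⟨ω⟩ := (inferInstance : Nonempty Ω)
  obtain ⟨-, -, -, hinf, -, hcompl⟩ :=
    CfsgLib.Solvable.primitive_abelian_minimal hprim N hN2 hc ω
  let H := MulAction.stabilizer ↥G ω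
  letI : CommGroup ↥N :=
    { (inferInstance : Group ↥N) with mul_comm := fun a b => Subtype.ext (hc _ a.2 _ b.2) }
  letI act : DistribMulAction ↥H (Additive ↥N) :=
    { smul := fun h v => Additive.ofMul ⟨(h : ↥G) * (Additive.toMul v : ↥N) * (h : ↥G)⁻¹,
        hN1.conj_mem _ (Additive.toMul v : ↥N).2 _⟩
      one_smul := fun v => Additive.toMul.injective (Subtype.ext (show (1 : ↥G) *
        ((Additive.toMul v : ↥N) : ↥G) * (1 : ↥G)⁻¹ = _ by simp))
      mul_smul := fun a b v => Additive.toMul.injective (Subtype.ext (show ((a : ↥G) * b) *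
        ((Additive.toMul v : ↥N) : ↥G) * ((a : ↥G) * b)⁻¹ =
          (a : ↥G) * ((b : ↥G) * ((Additive.toMul v : ↥N) : ↥G) * (b : ↥G)⁻¹) * (a : ↥G)⁻¹ by group))
      smul_zero := fun a => Additive.toMul.injective (Subtype.ext (show (a : ↥G) * 1 * (a : ↥G)⁻¹ = 1
        by simp))
      smul_add := fun a v w => Additive.toMul.injective (Subtype.ext (show (a : ↥G) *
        (((Additive.toMul v : ↥N) : ↥G) * ((Additive.toMul w : ↥N) : ↥G)) * (a : ↥G)⁻¹ =
          ((a : ↥G) * ((Additive.toMul v : ↥N) : ↥G) * (a : ↥G)⁻¹) *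
          ((a : ↥G) * ((Additive.toMul w : ↥N) : ↥G) * (a : ↥G)⁻¹) by group)) }
  have hdec : ∀ g : ↥G, ∃ (m : ↥N) (h : ↥H), g = (m : ↥G) * h := fun g => by
    obtain ⟨⟨m, h⟩, e⟩ := hcompl.2 g
    exact ⟨m, h, e.symm⟩
  let pt : Additive ↥N → Ω := fun v => ((Additive.toMul v : ↥N) : ↥G) • ω
  have hpt_bij : Function.Bijective pt := by
    refine ⟨fun v w e => ?_, fun x => ?_⟩
    · have : (((Additive.toMul w : ↥N) : ↥G))⁻¹ * ((Additive.toMul v : ↥N) : ↥G) ∈
          N ⊓ H := ⟨N.mul_mem (N.inv_mem (Additive.toMul w : ↥N).2) (Additive.toMul v : ↥N).2,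
        by
          show _ ∈ MulAction.stabilizer ↥G ω
          rw [MulAction.mem_stabilizer_iff, mul_smul, inv_smul_eq_iff]
          exact e⟩
      rw [show N ⊓ H = ⊥ from hinf, Subgroup.mem_bot, inv_mul_eq_one] at this
      exact Additive.toMul.injective (Subtype.ext this.symm)
    · obtain ⟨g, rfl⟩ := hprim.toIsPretransitive.exists_smul_eq ω x
      obtain ⟨m, h, rfl⟩ := hdec g
      exact ⟨Additive.ofMul m, by
        show (m : ↥G) • ω = ((m : ↥G) * (h : ↥G)) • ω
        rw [mul_smul, MulAction.mem_stabilizer_iff.1 h.2]⟩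
  have hpt : ∀ (m : ↥N) (h : ↥H) (v : Additive ↥N),
      ((m : ↥G) * (h : ↥G)) • pt v = pt (Additive.ofMul m + h • v) := by
    intro m h v
    show _ = ((m : ↥G) * ((h : ↥G) * ((Additive.toMul v : ↥N) : ↥G) * (h : ↥G)⁻¹)) • ω
    have hh : (h : ↥G)⁻¹ • ω = ω := by
      rw [inv_smul_eq_iff, MulAction.mem_stabilizer_iff.1 h.2]
    simp only [pt, mul_smul, hh]
  have hpodd : p ≠ 2 := by
    rintro rfl
    have h2 : 2 ∣ Nat.card ↥G := dvd_trans (by rw [hcard]; exact dvd_pow_self 2 hk.ne')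
      N.card_subgroup_dvd_card
    exact (Nat.not_even_iff_odd.2 hodd) (even_iff_two_dvd.2 h2)
  have hpV : ∀ v : Additive ↥N, (p : ℤ) • v = 0 := by
    intro v
    let K : Subgroup ↥G :=
      { carrier := {g | g ∈ N ∧ g ^ p = 1}
        one_mem' := ⟨N.one_mem, one_pow p⟩
        mul_mem' := fun {a b} ha hb => ⟨N.mul_mem ha.1 hb.1, by
          rw [(show Commute a b from hc a ha.1 b hb.1).mul_pow, ha.2, hb.2, one_mul]⟩
        inv_mem' := fun {a} ha => ⟨N.inv_mem ha.1, by rw [inv_pow, ha.2, inv_one]⟩ }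
    have hKn : K.Normal := ⟨fun a ha g => ⟨hN1.conj_mem a ha.1 g, by rw [conj_pow, ha.2]; simp⟩⟩
    have hK : K = N := by
      refine (hmin K hKn fun a ha => ha.1).resolve_left fun e => ?_
      haveI := Fact.mk hp
      obtain ⟨z, hz⟩ := exists_prime_orderOf_dvd_card' (G := ↥N) p
        (by rw [hcard]; exact dvd_pow_self p hk.ne')
      have hzK : (z : ↥G) ∈ K := ⟨z.2, by
        have := congrArg Subtype.val (pow_orderOf_eq_one z)
        rwa [hz] at this⟩
      rw [e, Subgroup.mem_bot, OneMemClass.coe_eq_one] at hzK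
      rw [hzK, orderOf_one] at hz
      exact hp.one_lt.ne hz
    apply Additive.toMul.injective
    rw [natCast_zsmul, toMul_nsmul, toMul_zero]
    refine Subtype.ext ?_
    have : ((Additive.toMul v : ↥N) : ↥G) ∈ K := by rw [hK]; exact (Additive.toMul v : ↥N).2
    rw [Subgroup.coe_pow, Subgroup.coe_one]
    exact this.2
  have hcr : CR ↥H (Additive ↥N) := by
    intro U hU
    let K : Subgroup ↥G :=
      { carrier := {g | ∃ v ∈ U, ((Additive.toMul v : ↥N) : ↥G) = g}
        one_mem' := ⟨0, U.zero_mem, rfl⟩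
        mul_mem' := by
          rintro _ _ ⟨v, hv, rfl⟩ ⟨w, hw, rfl⟩
          exact ⟨v + w, U.add_mem hv hw, rfl⟩
        inv_mem' := by
          rintro _ ⟨v, hv, rfl⟩
          exact ⟨-v, U.neg_mem hv, rfl⟩ }
    have hKn : K.Normal := by
      refine ⟨fun a ha g => ?_⟩
      obtain ⟨v, hv, rfl⟩ := ha
      obtain ⟨m, h, rfl⟩ := hdec g
      refine ⟨h • v, hU h v hv, ?_⟩
      have hcm := hc _ m.2 _ (Additive.toMul (h • v) : ↥N).2
      show _ = (m : ↥G) * (h : ↥G) * _ * ((m : ↥G) * (h : ↥G))⁻¹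
      have e1 : ((Additive.toMul (h • v) : ↥N) : ↥G) =
          (h : ↥G) * ((Additive.toMul v : ↥N) : ↥G) * (h : ↥G)⁻¹ := rfl
      rw [show (m : ↥G) * (h : ↥G) * ((Additive.toMul v : ↥N) : ↥G) * ((m : ↥G) * (h : ↥G))⁻¹ =
        (m : ↥G) * ((h : ↥G) * ((Additive.toMul v : ↥N) : ↥G) * (h : ↥G)⁻¹) * (m : ↥G)⁻¹ by group,
        ← e1, hcm, mul_inv_cancel_right]
    rcases hmin K hKn (by rintro _ ⟨v, -, rfl⟩; exact (Additive.toMul v : ↥N).2) with e | e
    · refine ⟨⊤, fun _ _ _ => trivial, ?_, sup_top_eq U⟩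
      rw [inf_top_eq, eq_bot_iff]
      intro v hv
      have : ((Additive.toMul v : ↥N) : ↥G) ∈ K := ⟨v, hv, rfl⟩
      rw [e, Subgroup.mem_bot, OneMemClass.coe_eq_one] at this
      exact AddSubgroup.mem_bot.2 (Additive.toMul.injective this)
    · refine ⟨⊥, fun h v hv => ?_, inf_bot_eq U, ?_⟩
      · rw [AddSubgroup.mem_bot] at hv ⊢
        rw [hv, smul_zero]
      · rw [sup_bot_eq, eq_top_iff]
        intro v _
        have : ((Additive.toMul v : ↥N) : ↥G) ∈ K := by rw [e]; exact (Additive.toMul v : ↥N).2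
        obtain ⟨w, hw, he⟩ := this
        rwa [← Additive.toMul.injective (Subtype.ext he)]
  have hcardV : Nat.card (Additive ↥N) = Nat.card Ω := Nat.card_congr (Equiv.ofBijective pt hpt_bij)
  have hoddH : Odd (Nat.card ↥H) := hodd.of_dvd_nat H.card_subgroup_dvd_card
  obtain ⟨S, hS⟩ := affine_set hoddH hp hpodd hpV
    (hyp ↥H (Additive ↥N) (by omega) hoddH hcr)
  refine ⟨pt '' S, fun g hg => ?_⟩
  obtain ⟨m, h, rfl⟩ := hdec g
  obtain ⟨hm, hh⟩ := hS (Additive.ofMul m) h fun v => by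
    rw [← hpt_bij.1.mem_set_image (s := S), ← hpt, hg, hpt_bij.1.mem_set_image]
  intro x
  obtain ⟨v, rfl⟩ := hpt_bij.2 x
  rw [hpt, hm, hh, zero_add]

/-- Gluck's lemma. -/
theorem regular_odd {n : ℕ} (hyp : Hyp.{u} n) {A Ω : Type u} [Group A] [Finite A] [MulAction A Ω]
    [Finite Ω] (hodd : Odd (Nat.card A)) (hn : Nat.card Ω < n) : Regular A Ω := by
  classical
  induction hc : Nat.card Ω using Nat.strong_induction_on generalizing A Ω with
  | _ c ih =>
  subst hc
  rcases subsingleton_or_nontrivial Ω with hs | hnt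
  · exact ⟨∅, fun a _ x => Subsingleton.elim _ _⟩
  by_cases htr : MulAction.IsPretransitive A Ω
  · by_cases hprim : MulAction.IsPreprimitive A Ω
    · let φ := MulAction.toPermHom A Ω
      have hoddG : Odd (Nat.card φ.range) := hodd.of_dvd_nat (Subgroup.card_range_dvd φ)
      let e : Ω →ₑ[φ.rangeRestrict] Ω := { toFun := id, map_smul' := fun _ _ => rfl }
      haveI := hprim
      have hp' : MulAction.IsPreprimitive φ.range Ω :=
        MulAction.IsPreprimitive.of_surjective (f := e) Function.surjective_id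
      obtain ⟨S, hS⟩ := regular_of_primitive φ.range hoddG hp' (hyp.mono hn)
      exact ⟨S, fun a ha x => hS (φ.rangeRestrict a) ha x⟩
    · obtain ⟨B, hB, hB1, hB2⟩ : ∃ B : Set Ω, MulAction.IsBlock A B ∧ ¬ B.Subsingleton ∧
          B ≠ Set.univ := by
        by_contra hno
        replace hno : ∀ B : Set Ω, MulAction.IsBlock A B → ¬ B.Subsingleton → B = Set.univ :=
          fun B h1 h2 => not_not.1 fun h3 => hno ⟨B, h1, h2, h3⟩
        exact hprim { toIsPretransitive := htr
                      isTrivialBlock_of_isBlock := fun {B} hB => or_iff_not_imp_left.2 fun hs => hno B hB hs }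
      have hBne : B.Nonempty := (Set.not_subsingleton_iff.1 hB1).nonempty
      have hmul := hB.ncard_block_mul_ncard_orbit_eq hBne
      have h2 : 2 ≤ B.ncard := (Set.one_lt_ncard).2
        (by obtain ⟨a, ha, b, hb, hab⟩ := Set.not_subsingleton_iff.1 hB1; exact ⟨a, ha, b, hb, hab⟩)
      have hpos : 0 < (MulAction.orbit A B).ncard :=
        Set.ncard_pos (Set.toFinite _) |>.2 ⟨B, MulAction.mem_orbit_self B⟩
      have hlt : (MulAction.orbit A B).ncard < Nat.card Ω := by nlinarith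
      have hBlt : B.ncard < Nat.card Ω := by
        rw [← Set.ncard_univ]
        exact Set.ncard_lt_ncard (Set.ssubset_univ_iff.2 hB2)
      refine regular_of_block hodd B hBne ?_ ?_ hB
      · exact ih _ (by rwa [Nat.card_coe_set_eq]) hodd
          (by rw [Nat.card_coe_set_eq]; omega) rfl
      · intro O hO
        have hcO : Nat.card O = B.ncard := by
          exact ((Nat.card_congr (Equiv.setCongr hO)).trans (Nat.card_coe_set_eq B) :)
        exact ih _ (by omega) (hodd.of_dvd_nat (Subgroup.card_subgroup_dvd_card _)) (by omega) rfl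
  · obtain ⟨ω⟩ := (inferInstance : Nonempty Ω)
    have hne : MulAction.orbit A ω ≠ Set.univ := fun e =>
      htr ⟨fun x y => by
        obtain ⟨g, hg⟩ : x ∈ MulAction.orbit A ω := by rw [e]; trivial
        obtain ⟨g', hg'⟩ : y ∈ MulAction.orbit A ω := by rw [e]; trivial
        exact ⟨g' * g⁻¹, by rw [← hg, ← hg']; simp [mul_smul]⟩⟩
    have hlt : (MulAction.orbit A ω).ncard < Nat.card Ω := by
      rw [← Set.ncard_univ]
      exact Set.ncard_lt_ncard (Set.ssubset_univ_iff.2 hne)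
    have hpos : 0 < (MulAction.orbit A ω).ncard :=
      Set.ncard_pos (Set.toFinite _) |>.2 ⟨ω, MulAction.mem_orbit_self ω⟩
    refine regular_of_not_transitive ω ?_ fun K O hO => ?_
    · exact ih _ (by rwa [Nat.card_coe_set_eq]) hodd (by rw [Nat.card_coe_set_eq]; omega) rfl
    · have hcO : Nat.card O = Nat.card Ω - (MulAction.orbit A ω).ncard := by
        rw [← Set.ncard_compl, ← Nat.card_coe_set_eq]
        exact Nat.card_congr (Equiv.setCongr hO)
      exact ih _ (by omega) (hodd.of_dvd_nat K.card_subgroup_dvd_card) (by omega) rfl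

end CfsgLib.OddBase
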