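import Mathlib.LinearAlgebra.Dimension.Constructions
import Mathlib.LinearAlgebra.FiniteDimensional.Defs
import Mathlib.LinearAlgebra.FiniteDimensional.Basic
import Mathlib.LinearAlgebra.FreeModule.Finite.Matrix
import Mathlib.GroupTheory.Index
import Mathlib.FieldTheory.Finiteness
import Mathlib.Tactic.Module
import Mathlib.Tactic.LinearCombination

/-!
Linear algebra lemmas for fixed spaces.
-/

set_option autoImplicit false
set_option linter.unusedSectionVars false

namespace CfsgLib.OddBase

section
variable {L V : Type*} [Field L] [AddCommGroup V] [Module L V]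

theorem vander_left {a b c : L} (hab : a ≠ b) (hac : a ≠ c) {x y z : V}
    (h0 : x + y + z = 0) (h1 : a • x + b • y + c • z = 0)
    (h2 : (a * a) • x + (b * b) • y + (c * c) • z = 0) : x = 0 := by
  have h : ((a - b) * (a - c)) • x = 0 := by
    calc ((a - b) * (a - c)) • x = ((a * a) • x + (b * b) • y + (c * c) • z) -
          (b + c) • (a • x + b • y + c • z) + (b * c) • (x + y + z) := by module
      _ = 0 := by rw [h0, h1, h2, smul_zero, smul_zero, sub_zero, add_zero]
  exact (smul_eq_zero.1 h).resolve_left (mul_ne_zero (sub_ne_zero.2 hab) (sub_ne_zero.2 hac))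

theorem vander_right {a b c : L} (hab : a ≠ b) (hac : a ≠ c) (hbc : b ≠ c) {x y z : V}
    (ha : x + a • y + (a * a) • z = 0) (hb : x + b • y + (b * b) • z = 0)
    (hc : x + c • y + (c * c) • z = 0) : x = 0 ∧ y = 0 ∧ z = 0 := by
  have h1 : (a - b) • (y + (a + b) • z) = 0 := by
    calc (a - b) • (y + (a + b) • z) =
          (x + a • y + (a * a) • z) - (x + b • y + (b * b) • z) := by module
      _ = 0 := by rw [ha, hb, sub_zero]
  have h2 : (a - c) • (y + (a + c) • z) = 0 := by
    calc (a - c) • (y + (a + c) • z) =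
          (x + a • y + (a * a) • z) - (x + c • y + (c * c) • z) := by module
      _ = 0 := by rw [ha, hc, sub_zero]
  have e1 := (smul_eq_zero.1 h1).resolve_left (sub_ne_zero.2 hab)
  have e2 := (smul_eq_zero.1 h2).resolve_left (sub_ne_zero.2 hac)
  have h3 : (b - c) • z = 0 := by
    calc (b - c) • z = (y + (a + b) • z) - (y + (a + c) • z) := by module
      _ = 0 := by rw [e1, e2, sub_zero]
  have hz := (smul_eq_zero.1 h3).resolve_left (sub_ne_zero.2 hbc)
  subst hz
  rw [smul_zero, add_zero] at e1
  subst e1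
  simp only [smul_zero, add_zero] at ha
  exact ⟨ha, rfl, rfl⟩

/-- Operators permuted by scalars under conjugation are linearly independent. -/
theorem card_le_finrank_sq [FiniteDimensional L V] {M : Type*} [Fintype M]
    (T : M → Module.End L V) (hne : ∀ m v, T m v = 0 → v = 0) [Nontrivial V]
    (hsep : ∀ m₀ m₁ : M, m₀ ≠ m₁ → ∃ (S : Module.End L V) (c : M → L),
      Function.Surjective S ∧ c m₀ ≠ c m₁ ∧ ∀ m v, S (T m v) = c m • T m (S v)) :
    Fintype.card M ≤ Module.finrank L V * Module.finrank L V := by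
  classical
  suffices h : LinearIndependent L T by
    have := h.fintype_card_le_finrank
    rwa [Module.finrank_linearMap] at this
  rw [Fintype.linearIndependent_iff]
  intro g
  induction hs : (Finset.univ.filter fun m => g m ≠ 0).card using Nat.strong_induction_on
    generalizing g with
  | _ k ih =>
  subst hs
  intro hg m₀
  by_contra hm₀
  by_cases hone : ∃ m₁, m₁ ≠ m₀ ∧ g m₁ ≠ 0
  · obtain ⟨m₁, hm₁, hg₁⟩ := hone
    obtain ⟨S, c, hS, hc, hcomm⟩ := hsep m₀ m₁ (Ne.symm hm₁)
    have hz : ∀ m, g m * (c m - c m₀) = 0 := by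
      refine ih _ ?_ (fun m => g m * (c m - c m₀)) rfl ?_
      · refine Finset.card_lt_card ⟨fun m hm => ?_, fun hsub => ?_⟩
        · simp only [Finset.mem_filter, Finset.mem_univ, true_and] at hm ⊢
          exact left_ne_zero_of_mul hm
        · have := hsub (show m₀ ∈ Finset.univ.filter fun m => g m ≠ 0 by simpa using hm₀)
          simp at this
      · apply LinearMap.ext
        intro w
        obtain ⟨v, rfl⟩ := hS w
        have e1 : ∑ m, g m • T m (S v) = 0 := by simpa using LinearMap.congr_fun hg (S v)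
        have e2 : ∑ m, g m • T m v = 0 := by simpa using LinearMap.congr_fun hg v
        have e3 : ∑ m, (g m * c m) • T m (S v) = 0 := by
          have := congrArg S e2
          simpa [map_sum, hcomm, mul_smul] using this
        simp only [LinearMap.coe_sum, Finset.sum_apply, LinearMap.smul_apply, LinearMap.zero_apply]
        calc ∑ m, (g m * (c m - c m₀)) • T m (S v) =
              ∑ m, ((g m * c m) • T m (S v) - c m₀ • g m • T m (S v)) :=
              Finset.sum_congr rfl fun m _ => by rw [mul_sub, sub_smul, mul_comm (g m) (c m₀), mul_smul (c m₀)]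
          _ = 0 := by rw [Finset.sum_sub_distrib, ← Finset.smul_sum, e1, e3, smul_zero, sub_zero]
    rcases mul_eq_zero.1 (hz m₁) with e | e
    · exact hg₁ e
    · exact hc (sub_eq_zero.1 e).symm
  · push Not at hone
    obtain ⟨v, hv⟩ := exists_ne (0 : V)
    have e : ∑ m, g m • T m v = 0 := by simpa using LinearMap.congr_fun hg v
    rw [Finset.sum_eq_single m₀ (fun m _ hm => by rw [hone m hm, zero_smul]) (by simp)] at e
    exact hv (hne m₀ v ((smul_eq_zero.1 e).resolve_left hm₀))

end

section
variable {V : Type*} [AddCommGroup V] [Finite V]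

theorem card_cube_le (F : AddSubgroup V) (f g : V →+ V)
    (h : ∀ x ∈ F, ∀ y ∈ F, ∀ z ∈ F, x + f y + g z = 0 → x = 0 ∧ y = 0 ∧ z = 0) :
    Nat.card ↥F ^ 3 ≤ Nat.card V := by
  let φ : ↥F × ↥F × ↥F → V := fun p => (p.1 : V) + f p.2.1 + g p.2.2
  have hφ : Function.Injective φ := by
    intro p q e
    have e' : (p.1 : V) + f p.2.1 + g p.2.2 = q.1 + f q.2.1 + g q.2.2 := e
    obtain ⟨h1, h2, h3⟩ := h ((p.1 : V) - q.1) (F.sub_mem p.1.2 q.1.2) ((p.2.1 : V) - q.2.1)
      (F.sub_mem p.2.1.2 q.2.1.2) ((p.2.2 : V) - q.2.2) (F.sub_mem p.2.2.2 q.2.2.2) (by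
        rw [map_sub, map_sub]
        calc (p.1 : V) - q.1 + (f p.2.1 - f q.2.1) + (g p.2.2 - g q.2.2) =
              ((p.1 : V) + f p.2.1 + g p.2.2) - (q.1 + f q.2.1 + g q.2.2) := by abel
          _ = 0 := by rw [e', sub_self])
    exact Prod.ext (Subtype.ext (sub_eq_zero.1 h1))
      (Prod.ext (Subtype.ext (sub_eq_zero.1 h2)) (Subtype.ext (sub_eq_zero.1 h3)))
  have := Nat.card_le_card_of_injective φ hφ
  rw [Nat.card_prod, Nat.card_prod] at this
  rw [pow_succ, pow_two, mul_assoc]
  exact this

theorem card_sq_le (F D : AddSubgroup V) (f : V →+ V) (hf : Function.Injective f)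
    (h : ∀ p ∈ F, ∀ q ∈ F, p = f q → p ∈ D) : Nat.card ↥F ^ 2 ≤ Nat.card V * Nat.card ↥D := by
  let φ : ↥F × ↥F →+ V :=
    { toFun := fun p => (p.1 : V) - f p.2
      map_zero' := by simp
      map_add' := fun p q => by simp only [Prod.fst_add, Prod.snd_add, AddSubgroup.coe_add, map_add]; abel }
  have h1 : Nat.card φ.range ≤ Nat.card V :=
    Nat.card_le_card_of_injective _ Subtype.val_injective
  have h2 : Nat.card φ.ker ≤ Nat.card ↥D :=
    Nat.card_le_card_of_injective
      (fun k : φ.ker => (⟨(k.1.1 : V), h _ k.1.1.2 _ k.1.2.2 (sub_eq_zero.1 k.2)⟩ : ↥D))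
      fun k l e => by
        have e1 : (k.1.1 : V) = l.1.1 := by
          have e2 := congrArg Subtype.val e
          exact e2
        refine Subtype.ext (Prod.ext (Subtype.ext e1) (Subtype.ext (hf ?_)))
        rw [← sub_eq_zero.1 k.2, ← sub_eq_zero.1 l.2, e1]
  have h3 := φ.ker.card_mul_index
  rw [AddSubgroup.index_ker, Nat.card_prod] at h3
  rw [pow_two, ← h3, Nat.mul_comm]
  exact Nat.mul_le_mul h1 h2

end

end CfsgLib.OddBase
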