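import Mathlib.GroupTheory.FiniteAbelian.Duality
import Mathlib.GroupTheory.QuotientGroup.Basic
import Mathlib.GroupTheory.Index
import Mathlib.RingTheory.RootsOfUnity.Complex
import Mathlib.RingTheory.RootsOfUnity.AlgebraicallyClosed
import Mathlib.Analysis.Complex.Polynomial.Basic

/-!
The commutator pairing of a group of class two over a cyclic central subgroup.
-/

set_option autoImplicit false
set_option linter.unusedSectionVars false

namespace CfsgLib.OddBase

/-- There are no more homomorphisms into a cyclic group than elements. -/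
theorem card_hom_le (M Z : Type*) [CommGroup M] [Finite M] [Group Z] [Finite Z] [IsCyclic Z] :
    Nat.card (M →* Z) ≤ Nat.card M := by
  haveI : NeZero (Nat.card Z) := ⟨Nat.card_pos.ne'⟩
  haveI : NeZero (Monoid.exponent M) := ⟨Monoid.exponent_ne_zero_of_finite⟩
  obtain ⟨e⟩ := CommGroup.monoidHom_mulEquiv_of_hasEnoughRootsOfUnity M ℂ
  have hc : Nat.card ↥(rootsOfUnity (Nat.card Z) ℂ) = Nat.card Z :=
    HasEnoughRootsOfUnity.natCard_rootsOfUnity ℂ (Nat.card Z)
  let i : Z →* ℂˣ :=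
    (rootsOfUnity (Nat.card Z) ℂ).subtype.comp (mulEquivOfCyclicCardEq hc.symm).toMonoidHom
  have hi : Function.Injective i :=
    Subtype.val_injective.comp (mulEquivOfCyclicCardEq hc.symm).injective
  haveI : Finite (M →* ℂˣ) := Finite.of_equiv _ e.toEquiv.symm
  calc Nat.card (M →* Z) ≤ Nat.card (M →* ℂˣ) :=
        Nat.card_le_card_of_injective (fun f => i.comp f) fun f g h =>
          MonoidHom.ext fun x => hi (DFunLike.congr_fun h x)
    _ = Nat.card M := Nat.card_congr e.toEquiv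

variable {G : Type*} [Group G] [Finite G]

/-- A class two subgroup over a cyclic central subgroup with nondegenerate commutator pairing. -/
structure Pairing (Z B : Subgroup G) : Prop where
  le : Z ≤ B
  cyclic : IsCyclic ↥Z
  central : ∀ z ∈ Z, ∀ b ∈ B, z * b = b * z
  cl : ∀ x ∈ B, ∀ y ∈ B, x * y * x⁻¹ * y⁻¹ ∈ Z
  rad : ∀ x ∈ B, (∀ y ∈ B, x * y = y * x) → x ∈ Z

namespace Pairing

variable {Z B : Subgroup G}

/-- The homomorphism given by commutators with `x`. -/
def chi (P : Pairing Z B) (x : G) (S : Subgroup G) (hS : S ≤ B)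
    (hx : ∀ y ∈ S, x * y * x⁻¹ * y⁻¹ ∈ Z) : ↥S →* ↥Z where
  toFun y := ⟨x * y * x⁻¹ * (y : G)⁻¹, hx y y.2⟩
  map_one' := Subtype.ext (by simp)
  map_mul' a b := Subtype.ext (by
    show x * ((a : G) * b) * x⁻¹ * ((a : G) * b)⁻¹ =
      (x * a * x⁻¹ * (a : G)⁻¹) * (x * b * x⁻¹ * (b : G)⁻¹)
    have h := P.central _ (hx b b.2) a (hS a.2)
    calc x * ((a : G) * b) * x⁻¹ * ((a : G) * b)⁻¹
        = x * a * x⁻¹ * (x * b * x⁻¹ * (b : G)⁻¹) * (a : G)⁻¹ := by group
      _ = x * a * x⁻¹ * ((x * b * x⁻¹ * (b : G)⁻¹) * (a : G)⁻¹) := by group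
      _ = x * a * x⁻¹ * ((a : G)⁻¹ * (x * b * x⁻¹ * (b : G)⁻¹)) := by
        rw [P.central _ (hx b b.2) _ (B.inv_mem (hS a.2))]
      _ = (x * a * x⁻¹ * (a : G)⁻¹) * (x * b * x⁻¹ * (b : G)⁻¹) := by group)

/-- The commutator pairing bounds indices. -/
theorem relIndex_le (P : Pairing Z B) (T S : Subgroup G) (hT : T ≤ B) (hS : S ≤ B) (hZS : Z ≤ S) :
    (T ⊓ Subgroup.centralizer (S : Set G)).relIndex T ≤
      (S ⊓ Subgroup.centralizer (T : Set G)).relIndex S := by
  classical
  haveI := P.cyclic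
  let N : Subgroup ↥S := (S ⊓ Subgroup.centralizer (T : Set G)).subgroupOf S
  have hZN : ∀ z (hz : z ∈ Z), (⟨z, hZS hz⟩ : ↥S) ∈ N := fun z hz =>
    ⟨hZS hz, fun t ht => (P.central z hz t (hT ht)).symm⟩
  have hN : N.Normal := ⟨fun n hn g => by
    have h1 := hZN _ (P.cl g (hS g.2) n (hS n.2))
    have h2 : g * n * g⁻¹ = (⟨_, hZS (P.cl g (hS g.2) n (hS n.2))⟩ : ↥S) * n := Subtype.ext (by
      show (g : G) * n * (g : G)⁻¹ = ((g : G) * n * (g : G)⁻¹ * (n : G)⁻¹) * n
      group)
    rw [h2]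
    exact N.mul_mem h1 hn⟩
  letI : CommGroup (↥S ⧸ N) :=
    { (inferInstance : Group (↥S ⧸ N)) with
      mul_comm := fun a b => by
        induction a using QuotientGroup.induction_on with
        | H a =>
          induction b using QuotientGroup.induction_on with
          | H b =>
            rw [← QuotientGroup.mk_mul, ← QuotientGroup.mk_mul, QuotientGroup.eq]
            have : (a * b)⁻¹ * (b * a) = ⟨_, hZS (P.cl _ (S.inv_mem b.2 |> fun h => hS h) _
                (S.inv_mem a.2 |> fun h => hS h))⟩ := Subtype.ext (by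
              show ((a : G) * b)⁻¹ * ((b : G) * a) = (b : G)⁻¹ * (a : G)⁻¹ * (b : G)⁻¹⁻¹ * (a : G)⁻¹⁻¹
              group)
            rw [this]
            exact hZN _ (P.cl _ (hS (S.inv_mem b.2)) _ (hS (S.inv_mem a.2))) }
  let M : Subgroup ↥T := (T ⊓ Subgroup.centralizer (S : Set G)).subgroupOf T
  let χ : ↥T → (↥S →* ↥Z) := fun t =>
    P.chi (t : G) S hS
      (fun y hy => P.cl t (hT t.2) y (hS hy))
  have hker : ∀ t : ↥T, N ≤ (χ t).ker := fun t n hn => Subtype.ext (by
    show (t : G) * n * (t : G)⁻¹ * (n : G)⁻¹ = 1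
    rw [show (t : G) * n = n * t from hn.2 t t.2, mul_inv_cancel_right, mul_inv_cancel])
  let f : ↥T ⧸ M → (↥S ⧸ N →* ↥Z) := fun q => QuotientGroup.lift N (χ q.out) (hker q.out)
  have hf : Function.Injective f := by
    intro q q' h
    have h1 : χ q.out = χ q'.out := by
      ext y
      exact congrArg Subtype.val (DFunLike.congr_fun h (QuotientGroup.mk y))
    rw [← QuotientGroup.out_eq' q, ← QuotientGroup.out_eq' q', QuotientGroup.eq]
    refine ⟨T.mul_mem (T.inv_mem (Quotient.out q).2) (Quotient.out q').2, fun y hy => ?_⟩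
    have h2 : ((Quotient.out q : ↥T) : G) * y * ((Quotient.out q : ↥T) : G)⁻¹ * y⁻¹ =
        ((Quotient.out q' : ↥T) : G) * y * ((Quotient.out q' : ↥T) : G)⁻¹ * y⁻¹ :=
      congrArg Subtype.val (DFunLike.congr_fun h1 (⟨y, hy⟩ : ↥S))
    have h3 := mul_right_cancel h2
    show y * (((Quotient.out q : ↥T) : G)⁻¹ * ((Quotient.out q' : ↥T) : G)) =
      ((Quotient.out q : ↥T) : G)⁻¹ * ((Quotient.out q' : ↥T) : G) * y
    calc y * (((Quotient.out q : ↥T) : G)⁻¹ * ((Quotient.out q' : ↥T) : G))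
        = ((Quotient.out q : ↥T) : G)⁻¹ *
          (((Quotient.out q : ↥T) : G) * y * ((Quotient.out q : ↥T) : G)⁻¹) *
          ((Quotient.out q' : ↥T) : G) := by group
      _ = ((Quotient.out q : ↥T) : G)⁻¹ * ((Quotient.out q' : ↥T) : G) * y := by rw [h3]; group
  haveI : Finite (↥S ⧸ N →* ↥Z) := Finite.of_injective _ DFunLike.coe_injective
  calc (T ⊓ Subgroup.centralizer (S : Set G)).relIndex T = Nat.card (↥T ⧸ M) := rfl
    _ ≤ Nat.card (↥S ⧸ N →* ↥Z) := Nat.card_le_card_of_injective f hf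
    _ ≤ Nat.card (↥S ⧸ N) := card_hom_le _ _
    _ = _ := rfl

theorem inf_centralizer (P : Pairing Z B) : B ⊓ Subgroup.centralizer (B : Set G) = Z := by
  refine le_antisymm (fun x hx => P.rad x hx.1 fun y hy => (hx.2 y hy).symm) ?_
  exact le_inf P.le fun z hz b hb => (P.central z hz b hb).symm

/-- Orthogonal subgroups have complementary indices. -/
theorem relIndex_perp (P : Pairing Z B) (S : Subgroup G) (hZS : Z ≤ S) (hS : S ≤ B) :
    (B ⊓ Subgroup.centralizer (S : Set G)).relIndex B = Z.relIndex S := by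
  have e : S ⊓ Subgroup.centralizer (B : Set G) = Z := by
    refine le_antisymm (fun x hx => P.rad x (hS hx.1) fun y hy => (hx.2 y hy).symm) ?_
    exact le_inf hZS fun z hz b hb => (P.central z hz b hb).symm
  have h1 := P.relIndex_le B S le_rfl hS hZS
  have h2 := P.relIndex_le S B hS le_rfl P.le
  rw [e] at h1 h2
  omega

/-- An automorphism acting trivially on the quotient is induced by an element. -/
theorem realise (P : Pairing Z B) {g : G} (hgz : ∀ z ∈ Z, g * z = z * g)
    (hg : ∀ x ∈ B, g * x * g⁻¹ * x⁻¹ ∈ Z) : ∃ b ∈ B, ∀ x ∈ B, g * x * g⁻¹ = b * x * b⁻¹ := by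
  classical
  haveI := P.cyclic
  let N : Subgroup ↥B := Z.subgroupOf B
  haveI : N.Normal := ⟨fun n hn g => by
    have : (g * n * g⁻¹ : ↥B) = n := Subtype.ext (by
      show (g : G) * n * (g : G)⁻¹ = n
      rw [← P.central n hn g g.2, mul_inv_cancel_right])
    rw [this]
    exact hn⟩
  letI : CommGroup (↥B ⧸ N) :=
    { (inferInstance : Group (↥B ⧸ N)) with
      mul_comm := fun a b => by
        induction a using QuotientGroup.induction_on with
        | H a =>
          induction b using QuotientGroup.induction_on with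
          | H b =>
            rw [← QuotientGroup.mk_mul, ← QuotientGroup.mk_mul, QuotientGroup.eq]
            show ((a : G) * b)⁻¹ * ((b : G) * a) ∈ Z
            have := P.cl _ (B.inv_mem b.2) _ (B.inv_mem a.2)
            rwa [show ((b : G))⁻¹ * (a : G)⁻¹ * (b : G)⁻¹⁻¹ * (a : G)⁻¹⁻¹ =
              ((a : G) * b)⁻¹ * ((b : G) * a) by group] at this }
  let χ : ↥B → (↥B →* ↥Z) := fun b =>
    P.chi (b : G) B le_rfl (fun y hy => P.cl b b.2 y hy)
  have hker : ∀ t : ↥B, N ≤ (χ t).ker := fun t n hn => Subtype.ext (by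
    show (t : G) * n * (t : G)⁻¹ * (n : G)⁻¹ = 1
    rw [← P.central n hn t t.2, mul_inv_cancel_right, mul_inv_cancel])
  let f : ↥B ⧸ N → (↥B ⧸ N →* ↥Z) := fun q => QuotientGroup.lift N (χ q.out) (hker q.out)
  have hf : Function.Injective f := by
    intro q q' h
    rw [← QuotientGroup.out_eq' q, ← QuotientGroup.out_eq' q', QuotientGroup.eq]
    refine P.rad _ (Subtype.prop ((Quotient.out q)⁻¹ * Quotient.out q')) fun y hy => ?_
    have h2 : ((Quotient.out q : ↥B) : G) * y * ((Quotient.out q : ↥B) : G)⁻¹ * y⁻¹ =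
        ((Quotient.out q' : ↥B) : G) * y * ((Quotient.out q' : ↥B) : G)⁻¹ * y⁻¹ :=
      congrArg Subtype.val (DFunLike.congr_fun h (QuotientGroup.mk (⟨y, hy⟩ : ↥B)))
    have h3 := mul_right_cancel h2
    show ((Quotient.out q : ↥B) : G)⁻¹ * ((Quotient.out q' : ↥B) : G) * y =
      y * (((Quotient.out q : ↥B) : G)⁻¹ * ((Quotient.out q' : ↥B) : G))
    symm
    calc y * (((Quotient.out q : ↥B) : G)⁻¹ * ((Quotient.out q' : ↥B) : G))
        = ((Quotient.out q : ↥B) : G)⁻¹ *
          (((Quotient.out q : ↥B) : G) * y * ((Quotient.out q : ↥B) : G)⁻¹) *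
          ((Quotient.out q' : ↥B) : G) := by group
      _ = ((Quotient.out q : ↥B) : G)⁻¹ * ((Quotient.out q' : ↥B) : G) * y := by rw [h3]; group
  haveI : Finite (↥B ⧸ N →* ↥Z) := Finite.of_injective _ DFunLike.coe_injective
  have hbij : Function.Bijective f :=
    (Nat.bijective_iff_injective_and_card f).2
      ⟨hf, le_antisymm (Nat.card_le_card_of_injective f hf) (card_hom_le _ _)⟩
  let ψ : ↥B →* ↥Z := P.chi g B le_rfl hg
  have hψ : N ≤ ψ.ker := fun n hn => Subtype.ext (by
    show g * n * g⁻¹ * (n : G)⁻¹ = 1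
    rw [hgz n hn, mul_inv_cancel_right, mul_inv_cancel])
  obtain ⟨q, hq⟩ := hbij.2 (QuotientGroup.lift N ψ hψ)
  refine ⟨((Quotient.out q : ↥B) : G), (Quotient.out q : ↥B).2, fun x hx => ?_⟩
  have h2 : ((Quotient.out q : ↥B) : G) * x * ((Quotient.out q : ↥B) : G)⁻¹ * x⁻¹ =
      g * x * g⁻¹ * x⁻¹ :=
    congrArg Subtype.val (DFunLike.congr_fun hq (QuotientGroup.mk (⟨x, hx⟩ : ↥B)))
  exact (mul_right_cancel h2).symm

/-- The index is a square. -/
theorem exists_sq (P : Pairing Z B) : ∃ Y : Subgroup G, Z ≤ Y ∧ Y ≤ B ∧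
    Z.relIndex B = Z.relIndex Y ^ 2 := by
  classical
  obtain ⟨Y, ⟨hZY, hYB, hY⟩, hmax⟩ := Set.Finite.exists_maximal
    (s := {Y : Subgroup G | Z ≤ Y ∧ Y ≤ B ∧ ∀ a ∈ Y, ∀ b ∈ Y, a * b = b * a}) (Set.toFinite _)
    ⟨Z, le_rfl, P.le, fun a ha b hb => P.central a ha b (P.le hb)⟩
  refine ⟨Y, hZY, hYB, ?_⟩
  have e : B ⊓ Subgroup.centralizer (Y : Set G) = Y := by
    refine le_antisymm (fun x hx => ?_) (le_inf hYB fun y hy z hz => hY z hz y hy)
    have hab : ∀ a ∈ Y ⊔ Subgroup.zpowers x, ∀ b ∈ Y ⊔ Subgroup.zpowers x, a * b = b * a := by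
      have hle : Y ⊔ Subgroup.zpowers x ≤ Subgroup.centralizer ((Y ⊔ Subgroup.zpowers x : Subgroup G) : Set G) := by
        have h1 : Y ⊔ Subgroup.zpowers x ≤ Subgroup.centralizer (Y : Set G) :=
          sup_le (fun y hy z hz => hY z hz y hy) (Subgroup.zpowers_le.2 hx.2)
        have h2 : Y ⊔ Subgroup.zpowers x ≤ Subgroup.centralizer (Subgroup.zpowers x : Set G) :=
          sup_le (fun y hy z hz => by
            obtain ⟨k, rfl⟩ := Subgroup.mem_zpowers_iff.1 hz
            exact ((show Commute y x from hx.2 y hy).zpow_right k).symm.eq)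
            (fun a ha z hz => by
              obtain ⟨k, rfl⟩ := Subgroup.mem_zpowers_iff.1 hz
              obtain ⟨l, rfl⟩ := Subgroup.mem_zpowers_iff.1 ha
              exact ((Commute.refl x).zpow_zpow k l).eq)
        intro a ha
        rw [Subgroup.mem_centralizer_iff]
        intro b hb
        have hb' : b ∈ Subgroup.centralizer ({a} : Set G) := by
          refine (sup_le ?_ ?_ : Y ⊔ Subgroup.zpowers x ≤ Subgroup.centralizer ({a} : Set G)) hb
          · intro y hy z hz
            rw [Set.mem_singleton_iff.1 hz]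
            exact ((h1 ha) y hy).symm
          · intro y hy z hz
            rw [Set.mem_singleton_iff.1 hz]
            exact ((h2 ha) y hy).symm
        exact (hb' a rfl).symm
      exact fun a ha b hb => (hle hb a ha)
    exact hmax ⟨hZY.trans le_sup_left, sup_le hYB (Subgroup.zpowers_le.2 hx.1), hab⟩ le_sup_left
      (le_sup_right (a := Y) (Subgroup.mem_zpowers x))
  have h := P.relIndex_perp Y hZY hYB
  rw [e] at h
  rw [← Subgroup.relIndex_mul_relIndex Z Y B hZY hYB, h, pow_two]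

end Pairing

end CfsgLib.OddBase
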