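import Cfsg.Agent.Lib.OddBase.Arith
import Cfsg.Agent.Lib.OddBase.Count
import Cfsg.Agent.Lib.OddBase.Linear
import Cfsg.Agent.Lib.OddBase.Module
import Mathlib.RingTheory.IntegralDomain

/-!
The quasi-primitive case.
-/

set_option autoImplicit false
set_option linter.unusedSectionVars false

namespace CfsgLib.OddBase

universe u

variable {A V : Type u} [Group A] [Finite A] [AddCommGroup V] [Finite V] [DistribMulAction A V]

/-- The fixed subgroup of an element. -/
def fixOf (V : Type u) [AddCommGroup V] [DistribMulAction A V] (a : A) : AddSubgroup V where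
  carrier := {v | a • v = v}
  zero_mem' := smul_zero a
  add_mem' := fun {x y} (hx : a • x = x) (hy : a • y = y) => show a • (x + y) = x + y by
    rw [smul_add, hx, hy]
  neg_mem' := fun {x} (hx : a • x = x) => show a • (-x) = -x by rw [smul_neg, hx]

theorem card_pair_fix (a : A) :
    Nat.card {p : V × V // a • p = p} = Nat.card ↥(fixOf V a) ^ 2 := by
  rw [pow_two, ← Nat.card_prod]
  refine Nat.card_congr
    { toFun := fun p => (⟨p.1.1, (Prod.ext_iff.1 p.2).1⟩, ⟨p.1.2, (Prod.ext_iff.1 p.2).2⟩)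
      invFun := fun q => ⟨(q.1.1, q.2.1), Prod.ext q.1.2 q.2.2⟩
      left_inv := fun p => rfl
      right_inv := fun q => rfl }

theorem quasi [FaithfulSMul A V] [Nontrivial V] (hodd : Odd (Nat.card A))
    (hyp : Hyp.{u} (Nat.card V))
    (hfield : ∀ X : Subgroup A, (∀ a ∈ X, ∀ b ∈ X, a * b = b * a) →
      (∀ g : A, ∀ a ∈ X, g * a * g⁻¹ ∈ X) → ∀ r ∈ alg V X, r ≠ 0 → Function.Injective r) :
    Base A V := by
  classical
  haveI hsol : Group.IsSolvable A := Cfsg.Agent.S0205.result hodd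
  have hfaith : ∀ a : A, (∀ v : V, a • v = v) → a = 1 := fun a h =>
    FaithfulSMul.eq_of_smul_eq_smul (α := V) fun v => by rw [one_smul]; exact h v
  have hfpf : ∀ X : Subgroup A, (∀ a ∈ X, ∀ b ∈ X, a * b = b * a) →
      (∀ g : A, ∀ a ∈ X, g * a * g⁻¹ ∈ X) → ∀ x ∈ X, ∀ v : V, v ≠ 0 → x • v = v → x = 1 := by
    intro X hc hn x hx v hv0 hv
    by_contra hx1
    have hr : ρ A V x - 1 ≠ 0 := fun e => hx1 (hfaith x fun w => by
      exact congrArg (fun f : AddMonoid.End V => f w) (sub_eq_zero.1 e))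
    refine hv0 (hfield X hc hn _ (sub_mem (ρ_mem_alg hx) (one_mem _)) hr ?_)
    show x • v - v = (ρ A V x - 1) 0
    rw [hv, sub_self, map_zero]
  -- a maximal abelian normal subgroup
  obtain ⟨Z, ⟨hZc, hZn⟩, hZmax⟩ := Set.Finite.exists_maximal
    (s := {X : Subgroup A | (∀ a ∈ X, ∀ b ∈ X, a * b = b * a) ∧
      ∀ g : A, ∀ a ∈ X, g * a * g⁻¹ ∈ X}) (Set.toFinite _)
    ⟨⊥, fun a ha b hb => by simp_all [Subgroup.mem_bot], fun g a ha => by simp_all [Subgroup.mem_bot]⟩
  have hZfpf := hfpf Z hZc hZn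
  -- the field generated by `Z`
  let L := ↥(alg V Z)
  letI : CommRing L := { (inferInstance : Ring L) with
    mul_comm := fun r s => Subtype.ext (alg_comm hZc r.2 s.2) }
  haveI : Finite (AddMonoid.End V) :=
    Finite.of_injective (fun r : AddMonoid.End V => (r : V → V)) DFunLike.coe_injective
  haveI : Nontrivial L := by
    refine ⟨0, 1, fun e => ?_⟩
    obtain ⟨v, hv⟩ := exists_ne (0 : V)
    exact hv (congrArg (fun f : AddMonoid.End V => f v) (congrArg Subtype.val e)).symm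
  haveI : NoZeroDivisors L := ⟨fun {r s} h => by
    by_contra hc
    rw [not_or] at hc
    refine hc.2 (Subtype.ext (AddMonoidHom.ext fun v => ?_))
    refine hfield Z hZc hZn r.1 r.2 (fun e => hc.1 (Subtype.ext e)) ?_
    show r.1 (s.1 v) = r.1 0
    rw [map_zero]
    exact congrArg (fun f : AddMonoid.End V => f v) (congrArg Subtype.val h)⟩
  haveI : IsDomain L := NoZeroDivisors.to_isDomain L
  letI : Field L := (Finite.isField_of_domain L).toField
  let lam : ↥Z → L := fun z => ⟨ρ A V z, ρ_mem_alg z.2⟩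
  have hlam : ∀ (z : ↥Z) (v : V), lam z • v = (z : A) • v := fun z v => rfl
  have hlam_inj : Function.Injective lam := fun z w e => Subtype.ext
    (FaithfulSMul.eq_of_smul_eq_smul (α := V) fun v => by rw [← hlam, ← hlam, e])
  let lamHom : ↥Z →* L :=
    { toFun := lam
      map_one' := Subtype.ext (map_one (ρ A V))
      map_mul' := fun z w => Subtype.ext (map_mul (ρ A V) (z : A) w) }
  haveI hcyc : IsCyclic ↥Z := isCyclic_of_subgroup_isDomain lamHom hlam_inj
  have hzL : Nat.card ↥Z + 1 ≤ Nat.card L := by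
    have := Nat.card_le_card_of_injective (fun o : Option ↥Z => o.elim 0 lam) (by
      have h0 : ∀ z, lam z ≠ 0 := fun z e => by
        obtain ⟨v, hv⟩ := exists_ne (0 : V)
        have h1 : (z : A) • v = 0 := by rw [← hlam, e, zero_smul]
        exact hv ((smul_eq_zero_iff_eq _).1 h1)
      rintro (_ | z) (_ | w) e
      · rfl
      · exact absurd e.symm (h0 w)
      · exact absurd e (h0 z)
      · exact congrArg some (hlam_inj e))
    rwa [Finite.card_option] at this
  -- its centralizer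
  let C : Subgroup A := Subgroup.centralizer (Z : Set A)
  have hZC : Z ≤ C := fun z hz w hw => hZc w hw z hz
  have hcent : ∀ c ∈ C, ∀ z ∈ Z, c * z = z * c := fun c hc z hz => (hc z hz).symm
  have hCn : ∀ g : A, ∀ c ∈ C, g * c * g⁻¹ ∈ C := fun g c hc z hz => by
    have h := hc _ (hZn g⁻¹ z hz)
    calc z * (g * c * g⁻¹) = g * ((g⁻¹ * z * g⁻¹⁻¹) * c) * g⁻¹ := by group
      _ = g * (c * (g⁻¹ * z * g⁻¹⁻¹)) * g⁻¹ := by rw [h]
      _ = g * c * g⁻¹ * z := by group
  have hlin : ∀ c ∈ C, ∀ (r : L) (v : V), c • r • v = r • c • v := by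
    intro c hc r v
    have hle : alg V Z ≤ Subring.centralizer {ρ A V c} := by
      refine Subring.closure_le.2 ?_
      rintro _ ⟨z, hz, rfl⟩
      exact Subring.mem_centralizer_iff.2 fun w hw => by
        rw [Set.mem_singleton_iff.1 hw, ← map_mul, ← map_mul, hcent c hc z hz]
    exact congrArg (fun f : AddMonoid.End V => f v) (Subring.mem_centralizer_iff.1 (hle r.2) _ rfl)
  obtain ⟨x, hxgen⟩ := hcyc.exists_generator
  have hCx : ∀ a : A, a * (x : A) = x * a → a ∈ C := by
    intro a ha z hz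
    obtain ⟨k, hk⟩ := Subgroup.mem_zpowers_iff.1 (hxgen ⟨z, hz⟩)
    have hk' : (x : A) ^ k = z := congrArg Subtype.val hk
    rw [← hk']
    exact ((show Commute a (x : A) from ha).zpow_right k).symm.eq
  by_cases hCZ : C ≤ Z
  · -- semilinear case
    obtain ⟨v, hv⟩ := exists_ne (0 : V)
    refine ⟨(v, (x : A) • v), fun a h1 h2 => ?_⟩
    have h3 : ((x : A)⁻¹ * (a * x * a⁻¹)) • v = v := by
      have hav : a⁻¹ • v = v := inv_smul_eq_iff.2 h1.symm
      rw [mul_smul, mul_smul, mul_smul, hav, inv_smul_eq_iff]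
      exact h2
    have h4 := hZfpf _ (Z.mul_mem (Z.inv_mem x.2) (hZn a x x.2)) v hv h3
    rw [inv_mul_eq_one] at h4
    have haC : a ∈ C := hCx a (mul_inv_eq_iff_eq_mul.1 h4.symm)
    have := hZfpf a (hCZ haC) v hv h1
    intro w
    rw [this, one_smul]
  -- a maximal class two subgroup
  obtain ⟨B, ⟨hZB, hBC, hBn, hBcl⟩, hBmax⟩ := Set.Finite.exists_maximal
    (s := {B : Subgroup A | Z ≤ B ∧ B ≤ C ∧ (∀ g : A, ∀ b ∈ B, g * b * g⁻¹ ∈ B) ∧
      ∀ a ∈ B, ∀ b ∈ B, a * b * a⁻¹ * b⁻¹ ∈ Z}) (Set.toFinite _)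
    ⟨Z, le_rfl, hZC, hZn, fun a ha b hb =>
      Z.mul_mem (Z.mul_mem (Z.mul_mem ha hb) (Z.inv_mem ha)) (Z.inv_mem hb)⟩
  have hnormD : ∀ g : A, ∀ d ∈ C ⊓ Subgroup.centralizer (B : Set A),
      g * d * g⁻¹ ∈ C ⊓ Subgroup.centralizer (B : Set A) := fun g d hd => ⟨hCn g d hd.1, fun b hb => by
    have h := hd.2 _ (hBn g⁻¹ b hb)
    calc b * (g * d * g⁻¹) = g * ((g⁻¹ * b * g⁻¹⁻¹) * d) * g⁻¹ := by group
      _ = g * (d * (g⁻¹ * b * g⁻¹⁻¹)) * g⁻¹ := by rw [h]
      _ = g * d * g⁻¹ * b := by group⟩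
  have hrad : ∀ y ∈ B, (∀ b ∈ B, y * b = b * y) → y ∈ Z := by
    intro y hy hyb
    refine hZmax (y := B ⊓ Subgroup.centralizer (B : Set A))
      ⟨fun a ha b hb => (ha.2 b hb.1).symm, fun g a ha => ?_⟩ ?_ ⟨hy, fun b hb => (hyb b hb).symm⟩
    · exact ⟨hBn g a ha.1, (hnormD g a ⟨hBC ha.1, ha.2⟩).2⟩
    · exact le_inf hZB fun z hz b hb => (hBC hb) z hz |>.symm
  have hself : C ⊓ Subgroup.centralizer (B : Set A) ≤ Z := by
    by_contra hD
    obtain ⟨X, ⟨hXn, hXD, hXZ⟩, hXmin⟩ := Set.Finite.exists_minimal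
      (s := {X : Subgroup A | X.Normal ∧ X ≤ C ⊓ Subgroup.centralizer (B : Set A) ∧ ¬ X ≤ Z})
      (Set.toFinite _) ⟨_, ⟨fun d hd g => hnormD g d hd⟩, le_rfl, hD⟩
    haveI := hXn
    have hXne : X ≠ ⊥ := fun e => hXZ (e ▸ bot_le)
    have hlt : ⁅X, X⁆ < X := IsSolvable.commutator_lt_of_ne_bot hXne
    have hXX : ⁅X, X⁆ ≤ Z := by
      by_contra h
      exact hlt.not_ge (hXmin ⟨inferInstance, hlt.le.trans hXD, h⟩ hlt.le)
    haveI hBn' : B.Normal := ⟨fun b hb g => hBn g b hb⟩
    have hB' : B ⊔ X ∈ {B : Subgroup A | Z ≤ B ∧ B ≤ C ∧ (∀ g : A, ∀ b ∈ B, g * b * g⁻¹ ∈ B) ∧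
        ∀ a ∈ B, ∀ b ∈ B, a * b * a⁻¹ * b⁻¹ ∈ Z} := by
      refine ⟨hZB.trans le_sup_left, sup_le hBC (hXD.trans inf_le_left),
        fun g b hb => (inferInstance : (B ⊔ X).Normal).conj_mem b hb g, fun s hs t ht => ?_⟩
      obtain ⟨b, hb, y, hy, rfl⟩ := Subgroup.mem_sup_of_normal_left.1 hs
      obtain ⟨b', hb', y', hy', rfl⟩ := Subgroup.mem_sup_of_normal_left.1 ht
      have c2 : Commute b y' := (hXD hy').2 b hb
      have c3 : Commute b' y := (hXD hy).2 b' hb'
      have c4 : Commute b' y' := (hXD hy').2 b' hb'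
      have c1 : Commute b y := (hXD hy).2 b hb
      have e : b * y * (b' * y') * (b * y)⁻¹ * (b' * y')⁻¹ =
          (b * b' * b⁻¹ * b'⁻¹) * (y * y' * y⁻¹ * y'⁻¹) := by
        calc b * y * (b' * y') * (b * y)⁻¹ * (b' * y')⁻¹
            = b * (y * b') * (y' * y⁻¹ * b⁻¹) * y'⁻¹ * b'⁻¹ := by group
          _ = b * (b' * y) * (b⁻¹ * (y' * y⁻¹)) * y'⁻¹ * b'⁻¹ := by
            rw [c3.eq, ((c2.inv_left).mul_right (c1.inv_left.inv_right)).eq]
          _ = b * b' * (y * b⁻¹) * y' * y⁻¹ * y'⁻¹ * b'⁻¹ := by group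
          _ = b * b' * (b⁻¹ * y) * y' * y⁻¹ * y'⁻¹ * b'⁻¹ := by rw [c1.inv_left.eq]
          _ = b * b' * b⁻¹ * ((y * y' * y⁻¹ * y'⁻¹) * b'⁻¹) := by group
          _ = b * b' * b⁻¹ * (b'⁻¹ * (y * y' * y⁻¹ * y'⁻¹)) := by
            rw [((((c3.mul_right c4).mul_right c3.inv_right).mul_right c4.inv_right).inv_left).eq]
          _ = _ := by group
      rw [e]
      exact Z.mul_mem (hBcl b hb b' hb') (hXX (Subgroup.commutator_mem_commutator hy hy'))
    have hXB : X ≤ B := le_sup_right.trans (hBmax hB' le_sup_left)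
    exact hXZ fun y hy => hrad y (hXB hy) fun b hb => ((hXD hy).2 b hb).symm
  have F : Frame Z B C :=
    { pair := ⟨hZB, hcyc, fun z hz b hb => (hcent b (hBC hb) z hz).symm, hBcl, hrad⟩
      normalZ := hZn
      normalB := hBn
      normalC := hCn
      le := hBC
      cent := hcent
      self := hself
      max := fun Y h1 h2 h3 h4 => hZmax ⟨h3, h4⟩ h1 }
  obtain ⟨Y, hZY, hYB, hm⟩ := F.pair.exists_sq
  set e := Z.relIndex Y with he
  have heodd : Odd e := Frame.odd_relIndex hodd Z Y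
  have hCB : ∀ c ∈ C, c ∉ Z → c ∈ B → ∃ y ∈ B, c * y * c⁻¹ * y⁻¹ ≠ 1 := by
    intro c _ hcZ hcB
    by_contra h
    push Not at h
    exact hcZ (hrad c hcB fun b hb => mul_inv_eq_iff_eq_mul.1 (mul_inv_eq_one.1 (h b hb)))
  have he3 : 3 ≤ e := by
    rcases heodd with ⟨k, hk⟩
    by_contra hlt
    have h1 : Z.relIndex B = 1 := by rw [hm, show e = 1 by omega, one_pow]
    refine hCZ fun c hc => hself ⟨hc, fun b hb => ?_⟩
    exact (hcent c hc b (Subgroup.relIndex_eq_one.1 h1 hb)).symm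
  -- primes of `e` divide `|Z|`
  haveI hN : (Z.subgroupOf B).Normal := F.subgroupOf_normal
  have hprimes : ∀ r, r.Prime → r ∣ e → r ≤ Nat.card ↥Z := by
    intro r hr hre
    haveI := Fact.mk hr
    obtain ⟨q, hq⟩ := exists_prime_orderOf_dvd_card' (G := ↥B ⧸ Z.subgroupOf B) r
      (show r ∣ Z.relIndex B by rw [hm]; exact dvd_pow hre two_ne_zero)
    obtain ⟨b, rfl⟩ := QuotientGroup.mk_surjective q
    have hbr : (b : A) ^ r ∈ Z := by
      have h2 := pow_orderOf_eq_one ((b : ↥B ⧸ Z.subgroupOf B))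
      rw [hq, ← QuotientGroup.mk_pow, QuotientGroup.eq_one_iff] at h2
      exact h2
    have hbZ : (b : A) ∉ Z := fun h => by
      have : ((b : ↥B ⧸ Z.subgroupOf B)) = 1 := (QuotientGroup.eq_one_iff b).2 h
      rw [this, orderOf_one] at hq
      exact hr.one_lt.ne hq
    obtain ⟨y, hy, hy1⟩ : ∃ y ∈ B, y * b * y⁻¹ * (b : A)⁻¹ ≠ 1 := by
      by_contra h
      push Not at h
      exact hbZ (hrad b b.2 fun w hw => (mul_inv_eq_iff_eq_mul.1 (mul_inv_eq_one.1 (h w hw))).symm)
    let z : ↥Z := ⟨y * b * y⁻¹ * (b : A)⁻¹, hBcl y hy b b.2⟩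
    have hz : z ^ r = 1 := Subtype.ext (by
      show (y * b * y⁻¹ * (b : A)⁻¹) ^ r = 1
      rw [F.chi_pow hy b.2, ← F.pair.central _ hbr y hy, mul_inv_cancel_right, mul_inv_cancel])
    have hzo : orderOf z = r := orderOf_eq_prime hz fun e => hy1 (congrArg Subtype.val e)
    rw [← hzo]
    exact orderOf_le_card
  have hz3 : 3 ≤ Nat.card ↥Z := by
    obtain ⟨r, hr, hre⟩ := Nat.exists_prime_and_dvd (show e ≠ 1 by omega)
    have h3 : r ≠ 2 := by
      rintro rfl
      exact (Nat.not_even_iff_odd.2 heodd) (even_iff_two_dvd.2 hre)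
    have := hr.two_le
    have := hprimes r hr hre
    omega
  -- the dimension
  haveI : Module.Finite L V := Module.Finite.of_finite
  set n := Module.finrank L V with hn
  set Lc := Nat.card L with hLc
  have hv : Nat.card V = Lc ^ n := Module.natCard_eq_pow_finrank
  let lin : ↥C → Module.End L V := fun c =>
    { toFun := fun v => (c : A) • v
      map_add' := smul_add _
      map_smul' := fun r v => hlin c c.2 r v }
  have hen : e ≤ n := by
    haveI := Fintype.ofFinite (↥B ⧸ Z.subgroupOf B)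
    have hM : Fintype.card (↥B ⧸ Z.subgroupOf B) = e ^ 2 := by
      rw [← Nat.card_eq_fintype_card]
      exact hm
    let T : ↥B ⧸ Z.subgroupOf B → Module.End L V := fun q =>
      lin ⟨((Quotient.out q : ↥B) : A), hBC (Quotient.out q : ↥B).2⟩
    have hTv : ∀ q v, T q v = ((Quotient.out q : ↥B) : A) • v := fun q v => rfl
    have := card_le_finrank_sq T (fun q v h => (smul_eq_zero_iff_eq _).1 h) fun p q hpq => by
      obtain ⟨y, hy, hy'⟩ : ∃ y ∈ B, y * (Quotient.out p : ↥B) * y⁻¹ * ((Quotient.out p : ↥B) : A)⁻¹ ≠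
          y * (Quotient.out q : ↥B) * y⁻¹ * ((Quotient.out q : ↥B) : A)⁻¹ := by
        by_contra h
        push Not at h
        apply hpq
        rw [← QuotientGroup.out_eq' p, ← QuotientGroup.out_eq' q, QuotientGroup.eq]
        refine hrad _ (Subtype.prop ((Quotient.out p)⁻¹ * Quotient.out q)) fun y hy => ?_
        show ((Quotient.out p : ↥B) : A)⁻¹ * ((Quotient.out q : ↥B) : A) * y =
          y * (((Quotient.out p : ↥B) : A)⁻¹ * ((Quotient.out q : ↥B) : A))
        symm
        have hz := hBcl y hy _ (Quotient.out q : ↥B).2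
        calc y * (((Quotient.out p : ↥B) : A)⁻¹ * ((Quotient.out q : ↥B) : A))
            = ((Quotient.out p : ↥B) : A)⁻¹ *
              (y * (Quotient.out p : ↥B) * y⁻¹ * ((Quotient.out p : ↥B) : A)⁻¹)⁻¹ *
              ((y * (Quotient.out q : ↥B) * y⁻¹ * ((Quotient.out q : ↥B) : A)⁻¹) *
                (Quotient.out q : ↥B)) * y := by group
          _ = ((Quotient.out p : ↥B) : A)⁻¹ * ((Quotient.out q : ↥B) : A) * y := by
            rw [h y hy]; group
      refine ⟨lin ⟨y, hBC hy⟩,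
        fun q => lam ⟨y * (Quotient.out q : ↥B) * y⁻¹ * ((Quotient.out q : ↥B) : A)⁻¹,
          hBcl y hy _ (Quotient.out q : ↥B).2⟩,
        fun w => ⟨y⁻¹ • w, smul_inv_smul y w⟩, fun e => hy' (congrArg Subtype.val (hlam_inj e)),
        fun q v => ?_⟩
      show y • ((Quotient.out q : ↥B) : A) • v =
        (y * (Quotient.out q : ↥B) * y⁻¹ * ((Quotient.out q : ↥B) : A)⁻¹) •
          ((Quotient.out q : ↥B) : A) • y • v
      rw [← mul_smul, ← mul_smul, ← mul_smul]
      congr 1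
      group
    rw [hM, ← hn] at this
    exact Nat.pow_le_pow_iff_left two_ne_zero |>.1 (by rw [pow_two n]; exact this)
  have hL4 : 4 ≤ Lc := by omega
  have hsmall : e ^ 2 < Nat.card V := by
    rw [hv]
    calc e ^ 2 < (2 ^ e) ^ 2 := Nat.pow_lt_pow_left Nat.lt_two_pow_self two_ne_zero
      _ = 4 ^ e := by rw [← pow_mul, mul_comm, pow_mul]; norm_num
      _ ≤ Lc ^ e := Nat.pow_le_pow_left hL4 e
      _ ≤ Lc ^ n := Nat.pow_le_pow_right (by omega) hen
  obtain ⟨hh, hh3, hh5, hh7, hh9⟩ := F.h_bounds hodd (by omega) hm (hyp.mono (by omega))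
  -- fixed spaces
  have hBfix : ∀ d ∈ B, d ∉ Z → Nat.card ↥(fixOf V d) ^ 3 ≤ Nat.card V := by
    intro d hd hdZ
    obtain ⟨y, hy, hy1⟩ := hCB d (hBC hd) hdZ hd
    let z : ↥Z := ⟨d * y * d⁻¹ * y⁻¹, hBcl d hd y hy⟩
    have hlamne : lam z ≠ 1 := fun e => hy1 (congrArg Subtype.val
      (hlam_inj (e.trans lamHom.map_one.symm)))
    have hlam2 : lam z * lam z ≠ 1 := by
      intro e
      have e2 : z * z = 1 := hlam_inj ((lamHom.map_mul z z).trans (e.trans lamHom.map_one.symm))
      have h1 := congrArg Subtype.val e2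
      change (z : A) * z = 1 at h1
      have hd' := orderOf_dvd_of_pow_eq_one (show (z : A) ^ 2 = 1 by rw [pow_two, h1])
      rcases (Nat.dvd_prime Nat.prime_two).1 hd' with e3 | e3
      · exact hy1 (orderOf_eq_one_iff.1 e3)
      · have := hodd.of_dvd_nat (orderOf_dvd_natCard (z : A))
        rw [e3] at this
        exact absurd this (by decide)
    have hlamsq : lam z ≠ lam z * lam z := fun e => hlamne (by
      have h0 : lam z ≠ 0 := fun e0 => by
        obtain ⟨v, hv0⟩ := exists_ne (0 : V)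
        exact hv0 ((smul_eq_zero_iff_eq (z : A)).1 (by rw [← hlam, e0, zero_smul]))
      exact (mul_left_cancel₀ h0 (show lam z * 1 = lam z * lam z by rw [mul_one]; exact e)).symm)
    let f := DistribSMul.toAddMonoidHom V y
    refine card_cube_le (fixOf V d) f (f.comp f) ?_
    intro u hu v hv' w hw h0
    have hu' : d • u = u := hu
    have hv'' : d • v = v := hv'
    have hw' : d • w = w := hw
    have hgen : ∀ q : V, d • y • q = lam z • y • d • q := by
      intro q
      show d • y • q = (d * y * d⁻¹ * y⁻¹) • y • d • q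
      rw [mul_smul, mul_smul, mul_smul, inv_smul_smul, inv_smul_smul]
    have hdy : ∀ q : V, d • q = q → d • y • q = lam z • y • q := fun q hq => by rw [hgen, hq]
    have hdyy : d • y • y • w = (lam z * lam z) • y • y • w := by
      rw [hgen, hdy w hw', hlin y (hBC hy), mul_smul]
    have e0 : u + y • v + y • y • w = 0 := h0
    have e1 : (1 : L) • u + lam z • y • v + (lam z * lam z) • y • y • w = 0 := by
      have := congrArg (d • ·) e0
      simp only [smul_add, smul_zero] at this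
      rwa [hu', hdy v hv'', hdyy, ← one_smul L u] at this
    have e2 : ((1 : L) * 1) • u + (lam z * lam z) • y • v +
        ((lam z * lam z) * (lam z * lam z)) • y • y • w = 0 := by
      have := congrArg (d • ·) e1
      simp only [smul_add, smul_zero] at this
      rwa [hlin d (hBC hd), hlin d (hBC hd), hlin d (hBC hd), hu', hdy v hv'', hdyy, ← mul_smul,
        ← mul_smul, ← one_smul L u, ← mul_smul] at this
    have hu0 : u = 0 := vander_left (Ne.symm hlamne) (Ne.symm hlam2) e0 e1 e2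
    have hv0 : y • v = 0 := vander_left (c := lam z * lam z) (b := (1 : L)) hlamne hlamsq
      (x := y • v) (y := u) (z := y • y • w)
      (by rw [← e0]; abel) (by rw [← e1]; abel) (by rw [← e2]; abel)
    have hw0 : y • y • w = 0 := by
      rw [hu0, hv0, zero_add, zero_add] at e0
      exact e0
    exact ⟨hu0, (smul_eq_zero_iff_eq y).1 hv0,
      (smul_eq_zero_iff_eq y).1 ((smul_eq_zero_iff_eq y).1 hw0)⟩
  have hCfix : ∀ a ∈ C, a ∉ Z → Nat.card ↥(fixOf V a) ^ 3 ≤ Nat.card V ^ 2 := by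
    intro a ha haZ
    have hV1 : 1 ≤ Nat.card V := Nat.card_pos
    by_cases haB : a ∈ B
    · exact (hBfix a haB haZ).trans (by nlinarith)
    obtain ⟨y, hy, hyd⟩ : ∃ y ∈ B, a * y * a⁻¹ * y⁻¹ ∉ Z := by
      by_contra h
      push Not at h
      obtain ⟨b, hb, hbx⟩ := F.pair.realise (g := a) (fun z hz => hcent a ha z hz) h
      have hmem : b⁻¹ * a ∈ Z := by
        refine hself ⟨C.mul_mem (C.inv_mem (hBC hb)) ha, fun x hx => ?_⟩
        have h1 := hbx x hx
        calc x * (b⁻¹ * a) = b⁻¹ * (b * x * b⁻¹) * a := by group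
          _ = b⁻¹ * a * x := by rw [← h1]; group
      apply haB
      rw [show a = b * (b⁻¹ * a) by group]
      exact B.mul_mem hb (hZB hmem)
    have hdB : a * y * a⁻¹ * y⁻¹ ∈ B := B.mul_mem (hBn a y hy) (B.inv_mem hy)
    have h1 := hBfix _ hdB hyd
    have h2 := card_sq_le (fixOf V a) (fixOf V (a * y * a⁻¹ * y⁻¹)) (DistribSMul.toAddMonoidHom V y)
      (MulAction.injective y) (fun p hp q hq hpq => by
        have hp' : a • p = p := hp
        have hq' : a • q = q := hq
        have hpq' : p = y • q := hpq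
        show (a * y * a⁻¹ * y⁻¹) • p = p
        rw [mul_smul, mul_smul, mul_smul, hpq', inv_smul_smul, inv_smul_eq_iff.2 hq'.symm, ← hpq', hp'])
    refine (Nat.pow_le_pow_iff_left two_ne_zero).1 ?_
    calc (Nat.card ↥(fixOf V a) ^ 3) ^ 2 = (Nat.card ↥(fixOf V a) ^ 2) ^ 3 := by ring
      _ ≤ (Nat.card V * Nat.card ↥(fixOf V (a * y * a⁻¹ * y⁻¹))) ^ 3 := Nat.pow_le_pow_left h2 3
      _ = Nat.card V ^ 3 * Nat.card ↥(fixOf V (a * y * a⁻¹ * y⁻¹)) ^ 3 := mul_pow _ _ _
      _ ≤ Nat.card V ^ 3 * Nat.card V := Nat.mul_le_mul_left _ h1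
      _ = (Nat.card V ^ 2) ^ 2 := by ring
  have hOfix : ∀ a : A, a ∉ C → Nat.card ↥(fixOf V a) ^ 3 ≤ Nat.card V := by
    intro a ha
    let x1 : ↥Z := ⟨a * x * a⁻¹, hZn a x x.2⟩
    let x2 : ↥Z := ⟨a * (a * x * a⁻¹) * a⁻¹, hZn a _ x1.2⟩
    have hne1 : x ≠ x1 := fun e => ha (hCx a (by
      have h : (x : A) = a * x * a⁻¹ := congrArg Subtype.val e
      conv_rhs => rw [h, inv_mul_cancel_right]))
    have hne2 : x ≠ x2 := fun e => ha (by
      have h : (x : A) = a * (a * x * a⁻¹) * a⁻¹ := congrArg Subtype.val e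
      have h2 : a * a ∈ C := hCx _ (by
        conv_rhs => rw [h]
        group)
      obtain ⟨k, hk⟩ := hodd.of_dvd_nat (orderOf_dvd_natCard a)
      have h3 : a = (a * a) ^ (k + 1) := by
        rw [← pow_two, ← pow_mul, show 2 * (k + 1) = orderOf a + 1 by omega, pow_succ,
          pow_orderOf_eq_one, one_mul]
      rw [h3]
      exact C.pow_mem h2 _)
    have hne12 : x1 ≠ x2 := fun e => hne1 (Subtype.ext (by
      have h : a * (x : A) * a⁻¹ = a * (a * x * a⁻¹) * a⁻¹ := congrArg Subtype.val e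
      exact mul_left_cancel (mul_right_cancel h)))
    let f := DistribSMul.toAddMonoidHom V (x : A)
    refine card_cube_le (fixOf V a) f (f.comp f) ?_
    intro u hu v hv' w hw h0
    have hu' : a • u = u := hu
    have hv'' : a • v = v := hv'
    have hw' : a • w = w := hw
    have hmove : ∀ (z : A) (q : V), a • z • q = (a * z * a⁻¹) • a • q := fun z q => by
      rw [← mul_smul, ← mul_smul, inv_mul_cancel_right]
    have e0 : u + (x : A) • v + (x : A) • (x : A) • w = 0 := h0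
    have e1 : u + (a * x * a⁻¹) • v + (a * x * a⁻¹) • (a * x * a⁻¹) • w = 0 := by
      have := congrArg (a • ·) e0
      simp only [smul_add, smul_zero] at this
      rwa [hu', hmove, hv'', hmove, hmove, hw'] at this
    have e2 : u + (a * (a * x * a⁻¹) * a⁻¹) • v +
        (a * (a * x * a⁻¹) * a⁻¹) • (a * (a * x * a⁻¹) * a⁻¹) • w = 0 := by
      have := congrArg (a • ·) e1
      simp only [smul_add, smul_zero] at this
      rwa [hu', hmove, hv'', hmove, hmove, hw'] at this
    exact vander_right (a := lam x) (b := lam x1) (c := lam x2) (fun e => hne1 (hlam_inj e))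
      (fun e => hne2 (hlam_inj e)) (fun e => hne12 (hlam_inj e))
      (by rw [mul_smul]; exact e0) (by rw [mul_smul]; exact e1) (by rw [mul_smul]; exact e2)
  -- orders
  let N := Z.relIndex C
  have hNm : N = e ^ 2 * B.relIndex C := by
    rw [← hm]
    exact (Subgroup.relIndex_mul_relIndex Z B C hZB hBC).symm
  have hcardA : Nat.card A ≤ Nat.card ↥Z ^ 2 * N := by
    have h1 : C.index ≤ Nat.card ↥Z := by
      rw [Subgroup.index_eq_card]
      refine Nat.card_le_card_of_injective (fun q : A ⧸ C => (⟨(Quotient.out q) * x * (Quotient.out q)⁻¹,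
        hZn _ x x.2⟩ : ↥Z)) fun q q' h => ?_
      have h' : (Quotient.out q) * (x : A) * (Quotient.out q)⁻¹ =
          (Quotient.out q') * (x : A) * (Quotient.out q')⁻¹ := congrArg Subtype.val h
      rw [← QuotientGroup.out_eq' q, ← QuotientGroup.out_eq' q', QuotientGroup.eq]
      refine hCx _ ?_
      calc (Quotient.out q)⁻¹ * (Quotient.out q') * (x : A)
          = (Quotient.out q)⁻¹ * ((Quotient.out q') * (x : A) * (Quotient.out q')⁻¹) * Quotient.out q' := by
            group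
        _ = (x : A) * ((Quotient.out q)⁻¹ * (Quotient.out q')) := by rw [← h']; group
    have h2 : Nat.card ↥Z * N = Nat.card ↥C := by
      rw [← Subgroup.relIndex_bot_left, ← Subgroup.relIndex_bot_left]
      exact Subgroup.relIndex_mul_relIndex ⊥ Z C bot_le hZC
    rw [← C.card_mul_index, ← h2]
    calc Nat.card ↥Z * N * C.index ≤ Nat.card ↥Z * N * Nat.card ↥Z := Nat.mul_le_mul_left _ h1
      _ = Nat.card ↥Z ^ 2 * N := by ring
  -- the count
  set v := Nat.card V with hvdef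
  have hv3 : 3 ≤ v := by nlinarith
  by_contra hno
  have hnon : ∀ p : V × V, ∃ a : A, a ≠ 1 ∧ a • p = p := by
    intro p
    by_contra h
    push Not at h
    refine hno ⟨p, fun a h1 h2 w => ?_⟩
    by_cases ha : a = 1
    · rw [ha, one_smul]
    · exact absurd (Prod.ext h1 h2) (h a ha)
  obtain ⟨FC, FO, T, hFC, hFO, hFCb, hFOb, hN, hX⟩ : ∃ FC FO T : ℕ,
      (∀ a ∈ C, a ∉ Z → Nat.card {p : V × V // a • p = p} ≤ FC) ∧
      (∀ a : A, a ∉ C → Nat.card {p : V × V // a • p = p} ≤ FO) ∧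
      FC ^ 3 ≤ T ∧ FO ^ 3 ≤ v ^ 2 ∧ 27 * N ^ 3 * T ≤ v ^ 6 ∧ (2 * Nat.card A) ^ 3 ≤ v ^ 4 := by
    haveI := Fintype.ofFinite A
    obtain ⟨mO, hmO, hmOmax⟩ := Finset.exists_max_image
      (insert 0 ((Finset.univ : Finset {a : A // a ∉ C}).image
        fun a : {a : A // a ∉ C} => Nat.card ↥(fixOf V a.1))) id (Finset.insert_nonempty _ _)
    obtain ⟨mC, hmC, hmCmax⟩ := Finset.exists_max_image
      (insert 0 ((Finset.univ : Finset {a : A // a ∈ C ∧ a ∉ Z}).image
        fun a : {a : A // a ∈ C ∧ a ∉ Z} => Nat.card ↥(fixOf V a.1))) id (Finset.insert_nonempty _ _)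
    have hbO : mO ^ 3 ≤ v := by
      rcases Finset.mem_insert.1 hmO with h | h
      · simp [h]
      · obtain ⟨a, -, rfl⟩ := Finset.mem_image.1 h
        exact hOfix a a.2
    have hbC : mC ^ 3 ≤ if e = 3 then v else v ^ 2 := by
      rcases Finset.mem_insert.1 hmC with h | h
      · simp [h]
      · obtain ⟨a, -, rfl⟩ := Finset.mem_image.1 h
        by_cases h3 : e = 3
        · rw [if_pos h3]
          refine hBfix a ?_ a.2.2
          have h1 : B.relIndex C = 1 := le_antisymm (hh3 h3)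
            (Nat.pos_of_ne_zero (Subgroup.index_ne_zero_of_finite (H := B.subgroupOf C)))
          exact Subgroup.relIndex_eq_one.1 h1 a.2.1
        · rw [if_neg h3]
          exact hCfix a a.2.1 a.2.2
    refine ⟨mC ^ 2, mO ^ 2, (if e = 3 then v else v ^ 2) ^ 2, fun a ha haZ => ?_, fun a ha => ?_,
      ?_, ?_, ?_⟩
    · rw [card_pair_fix]
      exact Nat.pow_le_pow_left (hmCmax _ (Finset.mem_insert_of_mem
        (Finset.mem_image.2 ⟨⟨a, ha, haZ⟩, Finset.mem_univ _, rfl⟩))) 2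
    · rw [card_pair_fix]
      exact Nat.pow_le_pow_left (hmOmax _ (Finset.mem_insert_of_mem
        (Finset.mem_image.2 ⟨⟨a, ha⟩, Finset.mem_univ _, rfl⟩))) 2
    · rw [← pow_mul, mul_comm, pow_mul]
      exact Nat.pow_le_pow_left hbC 2
    · rw [← pow_mul, mul_comm, pow_mul]
      exact Nat.pow_le_pow_left hbO 2
    · by_cases h3 : e = 3
      · have hN9 : N ≤ 9 := by
          rw [hNm, h3]
          have := hh3 h3
          omega
        obtain ⟨h27, hout⟩ := arith_three (n := n) hzL hz3 (by omega)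
        rw [← hv] at h27 hout
        refine ⟨?_, le_trans (Nat.pow_le_pow_left (Nat.mul_le_mul_left _
          (hcardA.trans (Nat.mul_le_mul_left _ hN9))) 3) hout⟩
        rw [if_pos h3]
        calc 27 * N ^ 3 * v ^ 2 ≤ 27 * 9 ^ 3 * v ^ 2 :=
              Nat.mul_le_mul_right _ (Nat.mul_le_mul_left _ (Nat.pow_le_pow_left hN9 3))
          _ ≤ v ^ 4 * v ^ 2 := Nat.mul_le_mul_right _ h27
          _ = v ^ 6 := by ring
      · have hbig := arith_big (n := n) (h := B.relIndex C) (by omega : 3 < e) heodd hL4 hen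
          (fun r hr hre => by have := hprimes r hr hre; omega) hh hh5 hh7 hh9
        rw [← hNm] at hbig
        have hout := arith_out_big (z := Nat.card ↥Z) (by omega : Nat.card ↥Z ≤ Lc) (by omega) hbig
        rw [← hv] at hbig hout
        refine ⟨?_, le_trans (Nat.pow_le_pow_left (Nat.mul_le_mul_left _ hcardA) 3) hout⟩
        rw [if_neg h3]
        calc 27 * N ^ 3 * (v ^ 2) ^ 2 ≤ v ^ 2 * (v ^ 2) ^ 2 := Nat.mul_le_mul_right _ hbig
          _ = v ^ 6 := by ring
  have hO := count_out (X := V × V) hodd C FO hFO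
  have hI := count_in (X := V × V) hodd Z C hZC hcyc
    (fun z hz c hc => (hcent c hc z hz).symm) FC hFC (fun p => p ≠ 0) (by
      intro p hp z hz h
      by_cases h1 : p.1 = 0
      · have h2 : p.2 ≠ 0 := fun h2 => hp (Prod.ext h1 h2)
        exact hZfpf z hz p.2 h2 (congrArg Prod.snd h)
      · exact hZfpf z hz p.1 h1 (congrArg Prod.fst h))
  have hlt := arith_final T hv3 hN hX hFCb hFOb hI hO
  have htot : v * v ≤ Nat.card {p : V × V // p ≠ 0 ∧ ∃ a ∈ C, a ≠ 1 ∧ a • p = p} +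
      Nat.card {p : V × V // ∃ a : A, a ∉ C ∧ a • p = p} + 1 := by
    rw [← Nat.card_prod]
    let f : {p : V × V // p ≠ 0 ∧ ∃ a ∈ C, a ≠ 1 ∧ a • p = p} ⊕
        {p : V × V // ∃ a : A, a ∉ C ∧ a • p = p} ⊕ PUnit.{1} → V × V :=
      fun s => Sum.elim Subtype.val (fun t => Sum.elim Subtype.val (fun _ => 0) t) s
    have hf : Function.Surjective f := by
      intro p
      by_cases hp : p = 0
      · exact ⟨Sum.inr (Sum.inr PUnit.unit), hp.symm⟩
      obtain ⟨a, ha, hap⟩ := hnon p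
      by_cases haC : a ∈ C
      · exact ⟨Sum.inl ⟨p, hp, a, haC, ha, hap⟩, rfl⟩
      · exact ⟨Sum.inr (Sum.inl ⟨p, a, haC, hap⟩), rfl⟩
    refine (Nat.card_le_card_of_surjective f hf).trans (le_of_eq ?_)
    simp only [Nat.card_sum, Nat.card_unique]
    omega
  omega

end CfsgLib.OddBase
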